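import Groth.Prelude.Def_CycDet
import Mathlib

/-!
# A nonzero functional on the space of symbols of a finite length module
-/

set_option autoImplicit false
universe u v

namespace CycDetLib

open IsLocalRing CycDet

variable {R : Type u} [CommRing R] [IsLocalRing R] {M : Type v} [AddCommGroup M] [Module R M] {l : ℕ}

theorem sb_congr {e e' : Fin l → M} {i : ℕ} (h : ∀ j : Fin l, (j : ℕ) < i → e j = e' j) :
    spanBefore R M e i = spanBefore R M e' i := by
  unfold spanBefore
  congr 1
  exact Set.image_congr fun j hj => h j hj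

theorem sb_mono (e : Fin l → M) {i j : ℕ} (h : i ≤ j) : spanBefore R M e i ≤ spanBefore R M e j :=
  Submodule.span_mono (Set.image_mono fun x hx => Nat.lt_of_lt_of_le hx h)

theorem mem_sb (e : Fin l → M) (a : Fin l) {i : ℕ} (h : (a : ℕ) < i) : e a ∈ spanBefore R M e i :=
  Submodule.subset_span ⟨a, h, rfl⟩

theorem sb_le {e : Fin l → M} {i : ℕ} {N : Submodule R M} (h : ∀ j : Fin l, (j : ℕ) < i → e j ∈ N) :
    spanBefore R M e i ≤ N :=
  Submodule.span_le.2 (by rintro _ ⟨j, hj, rfl⟩; exact h j hj)

theorem sb_zero (e : Fin l → M) : spanBefore R M e 0 = ⊥ :=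
  le_bot_iff.1 (sb_le fun _ h => absurd h (Nat.not_lt_zero _))

theorem sb_all (e : Fin l → M) : spanBefore R M e l = Submodule.span R (Set.range e) := by
  refine le_antisymm (sb_le fun j _ => Submodule.subset_span ⟨j, rfl⟩) (Submodule.span_le.2 ?_)
  rintro _ ⟨j, rfl⟩
  exact mem_sb e j j.2

theorem sb_succ (e : Fin l → M) (a : Fin l) :
    spanBefore R M e ((a : ℕ) + 1) = Submodule.span R {e a} ⊔ spanBefore R M e a := by
  refine le_antisymm (sb_le fun j hj => ?_)
    (sup_le (Submodule.span_le.2 (by simp [mem_sb e a])) (sb_mono e (Nat.le_succ _)))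
  rcases Nat.lt_succ_iff_lt_or_eq.1 hj with h | h
  · exact Submodule.mem_sup_right (mem_sb _ _ h)
  · obtain rfl : j = a := Fin.ext h
    exact Submodule.mem_sup_left (Submodule.mem_span_singleton_self _)

/-- No entry lies in the span of the earlier ones. -/
def Strict (R : Type u) [CommRing R] {M : Type v} [AddCommGroup M] [Module R M] {l : ℕ}
    (e : Fin l → M) : Prop :=
  ∀ a : Fin l, e a ∉ spanBefore R M e a

theorem span_eq_top_of_strict (hl : Module.length R M ≤ l) {e : Fin l → M} (h : Strict R e) :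
    Submodule.span R (Set.range e) = ⊤ := by
  rw [← sb_all e]
  by_contra htop
  let g : Fin (l + 2) → Submodule R M := fun i => if (i : ℕ) ≤ l then spanBefore R M e i else ⊤
  have hstep : ∀ i : Fin (l + 1), g i.castSucc < g i.succ := fun i => by
    simp only [g, Fin.val_castSucc, Fin.val_succ]
    rcases Nat.lt_or_ge (i : ℕ) l with hi | hi
    · rw [if_pos (by omega), if_pos (by omega)]
      refine lt_of_le_of_ne (sb_mono _ (by omega)) fun he => h ⟨i, hi⟩ ?_
      show e ⟨i, hi⟩ ∈ spanBefore R M e i
      rw [he]; exact mem_sb _ _ (Nat.lt_succ_self _)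
    · have hil : (i : ℕ) = l := by omega
      rw [if_pos (by omega), if_neg (by omega), hil]
      exact lt_top_iff_ne_top.2 htop
  have h1 := Order.LTSeries.length_le_krullDim (LTSeries.mk (l + 1) g (Fin.strictMono_iff_lt_succ.2 hstep))
  rw [← Module.coe_length] at h1
  have h2 : ((l + 1 : ℕ) : ℕ∞) ≤ (l : ℕ∞) := le_trans (WithBot.coe_le_coe.1 h1) hl
  exact absurd (Nat.cast_le.1 h2) (by omega)

theorem length_le_one_of_smul (x : M) (N : Submodule R M)
    (h : ∀ r ∈ maximalIdeal R, r • x ∈ N) :
    Module.length R (LinearMap.range (N.mkQ.comp (LinearMap.toSpanSingleton R M x))) ≤ 1 := by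
  set φ := N.mkQ.comp (LinearMap.toSpanSingleton R M x)
  have hk : maximalIdeal R ≤ LinearMap.ker φ := fun r hr => by
    rw [LinearMap.mem_ker]
    show N.mkQ (r • x) = 0
    exact (Submodule.Quotient.mk_eq_zero N).2 (h r hr)
  haveI : IsSimpleModule R (R ⧸ maximalIdeal R) :=
    isSimpleModule_iff_isCoatom.2 (Ideal.isMaximal_def.1 (maximalIdeal.isMaximal R))
  let ψ : (R ⧸ maximalIdeal R) →ₗ[R] LinearMap.range φ :=
    (maximalIdeal R).liftQ φ.rangeRestrict (by rw [LinearMap.ker_rangeRestrict]; exact hk)
  have hψ : Function.Surjective ψ := by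
    rintro ⟨y, r, rfl⟩
    exact ⟨Submodule.Quotient.mk r, rfl⟩
  exact (Module.length_le_of_surjective ψ hψ).trans (le_of_eq (Module.length_eq_one (R := R) (M := R ⧸ maximalIdeal R)))

open Classical in
theorem length_sb_le (e : Adm R M l) : ∀ i : ℕ, i ≤ l → ∀ a : ℕ,
    Module.length R (spanBefore R M e.1 i) +
      (if ∃ b : Fin l, (b : ℕ) = a ∧ a < i ∧ e.1 b ∈ spanBefore R M e.1 a then 1 else 0) ≤ i := by
  intro i
  induction i with
  | zero =>
    intro _ a
    rw [sb_zero, if_neg (fun ⟨b, _, hb, _⟩ => Nat.not_lt_zero _ hb)]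
    simp
  | succ i ih =>
    intro hi a
    classical
    let ai : Fin l := ⟨i, hi⟩
    have hsucc := sb_succ (R := R) e.1 ai
    by_cases hd : e.1 ai ∈ spanBefore R M e.1 i
    · have heq : spanBefore R M e.1 (i + 1) = spanBefore R M e.1 i := by
        rw [show i + 1 = (ai : ℕ) + 1 from rfl, hsucc]
        exact sup_eq_right.2 (Submodule.span_le.2 (Set.singleton_subset_iff.2 hd))
      rw [heq]
      calc _ ≤ Module.length R (spanBefore R M e.1 i) + 1 := by gcongr; split_ifs <;> simp
        _ ≤ (i : ℕ∞) + 1 := by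
          gcongr
          exact le_trans le_self_add (ih (by omega) a)
        _ = ((i + 1 : ℕ) : ℕ∞) := by push_cast; rfl
    · set V := spanBefore R M e.1 i with hV
      set W := spanBefore R M e.1 (i + 1) with hW
      have hVW : V ≤ W := sb_mono _ (Nat.le_succ _)
      let q : W →ₗ[R] LinearMap.range (V.mkQ.comp (LinearMap.toSpanSingleton R M (e.1 ai))) :=
        LinearMap.codRestrict _ (V.mkQ.comp W.subtype) fun w => by
          have hw : (w : M) ∈ Submodule.span R {e.1 ai} ⊔ spanBefore R M e.1 ai := hsucc.le w.2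
          obtain ⟨y, hy, s, hs, hys⟩ := Submodule.mem_sup.1 hw
          obtain ⟨c, rfl⟩ := Submodule.mem_span_singleton.1 hy
          refine ⟨c, ((Submodule.Quotient.eq V).2 ?_)⟩
          have hdiff : c • e.1 ai - (w : M) = -s := by
            show c • e.1 ai - W.subtype w = -s
            rw [show W.subtype w = c • e.1 ai + s from hys.symm]; abel
          show c • e.1 ai - (w : M) ∈ V
          rw [hdiff]
          exact neg_mem hs
      have hqs : Function.Surjective q := by
        rintro ⟨y, c, rfl⟩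
        exact ⟨⟨c • e.1 ai, W.smul_mem c (mem_sb _ _ (Nat.lt_succ_self _))⟩, Subtype.ext rfl⟩
      have hex : Function.Exact (Submodule.inclusion hVW) q := by
        intro w
        constructor
        · intro hw
          have : (w : M) ∈ V := (Submodule.Quotient.mk_eq_zero V).1 (Subtype.ext_iff.1 hw)
          exact ⟨⟨w, this⟩, Subtype.ext rfl⟩
        · rintro ⟨x, rfl⟩
          exact Subtype.ext ((Submodule.Quotient.mk_eq_zero V).2 x.2)
      rw [Module.length_eq_add_of_exact _ q (Submodule.inclusion_injective hVW) hqs hex, add_right_comm,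
        Nat.cast_add, Nat.cast_one]
      refine add_le_add ?_ (length_le_one_of_smul _ _ (e.2 ai))
      refine le_trans ?_ (ih (by omega) a)
      gcongr
      split_ifs with h1 h2
      · exact le_rfl
      · obtain ⟨b, rfl, hb, hbm⟩ := h1
        rcases Nat.lt_succ_iff_lt_or_eq.1 hb with h | h
        · exact absurd ⟨b, rfl, h, hbm⟩ h2
        · obtain rfl : b = ai := Fin.ext h
          exact absurd hbm hd
      · exact zero_le
      · exact le_rfl

theorem strict_of_span_eq_top (hl : Module.length R M = l) (e : Adm R M l)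
    (h : Submodule.span R (Set.range e.1) = ⊤) : Strict R e.1 := by
  intro a ha
  have h1 := length_sb_le e l le_rfl a
  rw [if_pos ⟨a, rfl, a.2, ha⟩, sb_all, h, Module.length_top, hl] at h1
  have : ((l + 1 : ℕ) : ℕ∞) ≤ (l : ℕ∞) := by push_cast; exact h1
  exact absurd (Nat.cast_le.1 this) (by omega)

theorem exists_socle [Nontrivial M] (hM : IsFiniteLength R M) :
    ∃ x : M, x ≠ 0 ∧ (∀ r ∈ maximalIdeal R, r • x = 0) ∧
      Module.length R (Submodule.span R {x}) = 1 := by
  haveI := (isFiniteLength_iff_isNoetherian_isArtinian.1 hM).2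
  obtain hb | ⟨N, hN, -⟩ := IsAtomic.eq_bot_or_exists_atom_le (⊤ : Submodule R M)
  · exact absurd hb top_ne_bot
  obtain ⟨x, hx, hx0⟩ := Submodule.exists_mem_ne_zero_of_ne_bot hN.1
  have hNx : Submodule.span R {x} = N := by
    rcases hN.le_iff.1 (Submodule.span_le.2 (Set.singleton_subset_iff.2 hx)) with h | h
    · exact absurd (Submodule.span_singleton_eq_bot.1 h) hx0
    · exact h
  refine ⟨x, hx0, fun r hr => ?_, ?_⟩
  · rcases hN.le_iff.1 (Submodule.span_le.2 (Set.singleton_subset_iff.2 (N.smul_mem r hx))) with h | h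
    · exact Submodule.span_singleton_eq_bot.1 h
    · exfalso
      have hm : x ∈ Submodule.span R {r • x} := h.symm ▸ hx
      obtain ⟨t, ht⟩ := Submodule.mem_span_singleton.1 hm
      rw [smul_smul] at ht
      have h0 : (1 - t * r) • x = 0 := by rw [sub_smul, one_smul, ht, sub_self]
      have hu : IsUnit (1 - t * r) := by
        refine IsLocalRing.isUnit_one_sub_self_of_mem_nonunits _ ?_
        exact (IsLocalRing.mem_maximalIdeal _).1 (Ideal.mul_mem_left _ t hr)
      exact hx0 (hu.smul_eq_zero.1 h0)
  · rw [hNx]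
    haveI := isSimpleModule_iff_isAtom.2 hN
    exact Module.length_eq_one R N

/-- A function on admissible tuples compatible with the admissible relations. -/
def Rel (φ : Adm R M l → ResidueField R) : Prop :=
  ∀ x ∈ relSet R M l, Finsupp.linearCombination (ResidueField R) φ x = 0

theorem lc_sym (φ : Adm R M l → ResidueField R) (e : Adm R M l) :
    Finsupp.linearCombination (ResidueField R) φ (sym R M e) = φ e := by
  simp [sym]

theorem Rel.scale {φ : Adm R M l → ResidueField R} (hφ : Rel φ) (e e' : Adm R M l) (a : Fin l)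
    (c : Rˣ) (h1 : ∀ j, j ≠ a → e.1 j = e'.1 j)
    (h2 : e.1 a - (c : R) • e'.1 a ∈ spanBefore R M e.1 a) :
    φ e = residue R (c : R) * φ e' := by
  have := hφ _ (Or.inl (Or.inr ⟨e, e', a, c, h1, h2, rfl⟩))
  rw [map_sub, map_smul, lc_sym, lc_sym, sub_eq_zero] at this
  exact this

theorem Rel.swap {φ : Adm R M l → ResidueField R} (hφ : Rel φ) (e e' : Adm R M l) (a b : Fin l)
    (hab : (b : ℕ) + 1 = a) (h1 : ∀ r ∈ maximalIdeal R, r • e.1 a ∈ spanBefore R M e.1 b)
    (h2 : e'.1 = e.1 ∘ Equiv.swap a b) : φ e + φ e' = 0 := by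
  have := hφ _ (Or.inr ⟨e, e', a, b, hab, h1, h2, rfl⟩)
  rwa [map_add, lc_sym, lc_sym] at this

/-- The prefix spans are insensitive to rescaling one entry modulo the earlier ones. -/
theorem sb_eq_of_scale {e e' : Fin l → M} (a : Fin l) (c : Rˣ) (h1 : ∀ j, j ≠ a → e j = e' j)
    (h2 : e a - (c : R) • e' a ∈ spanBefore R M e a) (i : ℕ) :
    spanBefore R M e i = spanBefore R M e' i := by
  rcases Nat.lt_or_ge (a : ℕ) i with hai | hai
  · have hlow : spanBefore R M e a = spanBefore R M e' a :=
      sb_congr fun j hj => h1 j (fun h => by subst h; omega)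
    refine le_antisymm (sb_le fun j hj => ?_) (sb_le fun j hj => ?_)
    · by_cases hja : j = a
      · subst hja
        have : e j = (e j - (c : R) • e' j) + (c : R) • e' j := (sub_add_cancel _ _).symm
        rw [this]
        exact add_mem (sb_mono _ hai.le (hlow ▸ h2)) (Submodule.smul_mem _ _ (mem_sb _ _ hj))
      · rw [h1 j hja]; exact mem_sb _ _ hj
    · by_cases hja : j = a
      · subst hja
        have : e' j = (↑c⁻¹ : R) • (e j - (e j - (c : R) • e' j)) := by
          rw [sub_sub_cancel, smul_smul, Units.inv_mul, one_smul]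
        rw [this]
        exact Submodule.smul_mem _ _ (sub_mem (mem_sb _ _ hj) (sb_mono _ hai.le h2))
      · rw [← h1 j hja]; exact mem_sb _ _ hj
  · exact sb_congr fun j hj => h1 j (fun h => by subst h; omega)

theorem span_range_swap (e : Fin l → M) (σ : Equiv.Perm (Fin l)) :
    Submodule.span R (Set.range (e ∘ σ)) = Submodule.span R (Set.range e) := by
  rw [σ.surjective.range_comp]

section step

variable (f1 : M)

/-- Image in `M/(f1)` of the tuple with the `p`-th entry omitted. -/
def omit' (e : Fin (l + 1) → M) (p : Fin (l + 1)) : Fin l → M ⧸ Submodule.span R {f1} :=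
  fun i => Submodule.Quotient.mk (e (p.succAbove i))

/-- `f1` first enters the span at position `p`, with coefficient `c`. -/
def Piv (e : Fin (l + 1) → M) (p : Fin (l + 1)) (c : Rˣ) : Prop :=
  f1 - (c : R) • e p ∈ spanBefore R M e p

variable {f1}

theorem mk_f1 : (Submodule.Quotient.mk f1 : M ⧸ Submodule.span R {f1}) = 0 :=
  (Submodule.Quotient.mk_eq_zero _).2 (Submodule.mem_span_singleton_self _)

theorem exists_piv (hf : f1 ≠ 0) (e : Adm R M (l + 1))
    (ht : Submodule.span R (Set.range e.1) = ⊤) : ∃ (p : Fin (l + 1)) (c : Rˣ), Piv f1 e.1 p c := by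
  classical
  have hex : ∃ n, f1 ∈ spanBefore R M e.1 n := ⟨l + 1, by rw [sb_all, ht]; trivial⟩
  have hn0 : Nat.find hex ≠ 0 := fun h => by
    have := Nat.find_spec hex
    rw [h, sb_zero, Submodule.mem_bot] at this
    exact hf this
  have hnl : Nat.find hex ≤ l + 1 := Nat.find_min' hex (by rw [sb_all, ht]; trivial)
  let p : Fin (l + 1) := ⟨Nat.find hex - 1, by omega⟩
  have hp : (p : ℕ) + 1 = Nat.find hex := by simp only [p]; omega
  have hm := Nat.find_spec hex
  rw [← hp, sb_succ] at hm
  obtain ⟨y, hy, s, hs, hys⟩ := Submodule.mem_sup.1 hm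
  obtain ⟨c, rfl⟩ := Submodule.mem_span_singleton.1 hy
  have hc : IsUnit c := by
    by_contra hc
    refine Nat.find_min hex (show (p : ℕ) < Nat.find hex by omega) ?_
    rw [← hys]
    exact add_mem (e.2 p c ((mem_maximalIdeal _).2 hc)) hs
  refine ⟨p, hc.unit, ?_⟩
  show f1 - c • e.1 p ∈ _
  rw [← hys, add_sub_cancel_left]
  exact hs

theorem piv_unique (e : Fin (l + 1) → M) (hs : Strict R e) {p p' : Fin (l + 1)} {c c' : Rˣ}
    (h : Piv f1 e p c) (h' : Piv f1 e p' c') : p = p' ∧ residue R (c : R) = residue R (c' : R) := by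
  have key : ∀ (p p' : Fin (l + 1)) (c c' : Rˣ), Piv f1 e p c → Piv f1 e p' c' → ¬ p < p' := by
    intro p p' c c' h h' hlt
    refine hs p' ?_
    have hlt' : (p : ℕ) < (p' : ℕ) := hlt
    have h1 : f1 ∈ spanBefore R M e p' := by
      have := add_mem (sb_mono e hlt'.le h) (Submodule.smul_mem _ (c : R) (mem_sb e p hlt'))
      rwa [sub_add_cancel] at this
    have h2 : (c' : R) • e p' ∈ spanBefore R M e p' := by
      have := sub_mem h1 h'
      rwa [sub_sub_cancel] at this
    have := Submodule.smul_mem _ (↑c'⁻¹ : R) h2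
    rwa [smul_smul, Units.inv_mul, one_smul] at this
  have hp : p = p' := le_antisymm (not_lt.1 (key p' p c' c h' h)) (not_lt.1 (key p p' c c' h h'))
  subst hp
  refine ⟨rfl, ?_⟩
  rw [← sub_eq_zero, ← map_sub, IsLocalRing.residue_eq_zero_iff]
  by_contra hu
  have hu' : IsUnit ((c : R) - c') := by rwa [mem_maximalIdeal, mem_nonunits_iff, not_not] at hu
  refine hs p ?_
  have h2 : ((c : R) - c') • e p ∈ spanBefore R M e p := by
    have := sub_mem h' h
    rwa [sub_sub_sub_cancel_left, ← sub_smul] at this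
  have := Submodule.smul_mem _ (↑hu'.unit⁻¹ : R) h2
  rwa [smul_smul, IsUnit.val_inv_mul, one_smul] at this

theorem succAbove_lt_iff (p : Fin (l + 1)) {i j : Fin l} :
    ((p.succAbove i : Fin (l + 1)) : ℕ) < (p.succAbove j : Fin (l + 1)) ↔ (i : ℕ) < j :=
  (Fin.strictMono_succAbove p).lt_iff_lt

theorem map_sb (e : Fin (l + 1) → M) {p : Fin (l + 1)} {c : Rˣ} (h : Piv f1 e p c) (i : Fin l) :
    (spanBefore R M e (p.succAbove i)).map (Submodule.mkQ (Submodule.span R {f1})) =
      spanBefore R (M ⧸ Submodule.span R {f1}) (omit' (R := R) f1 e p) i := by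
  refine le_antisymm ?_ (sb_le fun j hj => ⟨e (p.succAbove j), mem_sb _ _ ((succAbove_lt_iff p).2 hj), rfl⟩)
  have hne : ∀ k : Fin (l + 1), k ≠ p → (k : ℕ) < (p.succAbove i : ℕ) →
      Submodule.mkQ (Submodule.span R {f1}) (e k) ∈
        spanBefore R (M ⧸ Submodule.span R {f1}) (omit' (R := R) f1 e p) i := by
    intro k hk hlt
    obtain ⟨j, rfl⟩ := Fin.exists_succAbove_eq hk
    exact mem_sb (omit' (R := R) f1 e p) j ((succAbove_lt_iff p).1 hlt)
  rw [Submodule.map_le_iff_le_comap]
  refine sb_le fun k hk => ?_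
  rw [Submodule.mem_comap]
  by_cases hkp : k = p
  · subst hkp
    have hlow : (spanBefore R M e k) ≤ Submodule.comap (Submodule.mkQ (Submodule.span R {f1}))
        (spanBefore R (M ⧸ Submodule.span R {f1}) (omit' (R := R) f1 e k) i) :=
      sb_le fun k' hk' => hne k' (fun h => by subst h; omega) (by omega)
    have h1 := hlow h
    rw [Submodule.mem_comap, map_sub, map_smul, Submodule.mkQ_apply, mk_f1, zero_sub,
      Submodule.neg_mem_iff] at h1
    have h2 := Submodule.smul_mem _ (↑c⁻¹ : R) h1
    rwa [smul_smul, Units.inv_mul, one_smul] at h2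
  · exact hne k hkp hk

theorem omit_adm (e : Adm R M (l + 1)) {p : Fin (l + 1)} {c : Rˣ} (h : Piv f1 e.1 p c) :
    IsAdmissible R (M ⧸ Submodule.span R {f1}) (omit' (R := R) f1 e.1 p) := by
  intro i r hr
  rw [← map_sb e.1 h i]
  exact ⟨r • e.1 (p.succAbove i), e.2 _ r hr, rfl⟩

theorem span_omit (e : Fin (l + 1) → M) {p : Fin (l + 1)} {c : Rˣ} (h : Piv f1 e p c)
    (ht : Submodule.span R (Set.range e) = ⊤) :
    Submodule.span R (Set.range (omit' (R := R) f1 e p)) = ⊤ := by
  set S := Submodule.span R (Set.range (omit' (R := R) f1 e p)) with hS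
  have hne : ∀ k, k ≠ p → Submodule.mkQ (Submodule.span R {f1}) (e k) ∈ S := by
    intro k hk
    obtain ⟨j, rfl⟩ := Fin.exists_succAbove_eq hk
    exact Submodule.subset_span ⟨j, rfl⟩
  have hp : Submodule.mkQ (Submodule.span R {f1}) (e p) ∈ S := by
    have hlow : spanBefore R M e p ≤ S.comap (Submodule.mkQ (Submodule.span R {f1})) :=
      sb_le fun k' hk' => hne k' (fun hh => by subst hh; omega)
    have h1 := hlow h
    rw [Submodule.mem_comap, map_sub, map_smul, Submodule.mkQ_apply, mk_f1, zero_sub,
      Submodule.neg_mem_iff] at h1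
    have h2 := Submodule.smul_mem _ (↑c⁻¹ : R) h1
    rwa [smul_smul, Units.inv_mul, one_smul] at h2
  rw [eq_top_iff]
  intro y _
  obtain ⟨x, rfl⟩ := Submodule.mkQ_surjective _ y
  have hx : x ∈ Submodule.span R (Set.range e) := by rw [ht]; trivial
  refine (Submodule.span_le (p := S.comap (Submodule.span R {f1}).mkQ)).2 ?_ hx
  rintro _ ⟨k, rfl⟩
  by_cases hk : k = p
  · subst hk; exact hp
  · exact hne k hk

theorem residue_unit_ne_zero (c : Rˣ) : residue R (c : R) ≠ 0 :=
  ((residue_ne_zero_iff_isUnit _).2 c.isUnit)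

/-- Extend a functional from `M/(f1)` to `M`. -/
theorem step (hl : Module.length R M = ((l + 1 : ℕ) : ℕ∞)) (hf : f1 ≠ 0)
    (φ' : Adm R (M ⧸ Submodule.span R {f1}) l → ResidueField R) (hφ' : Rel φ')
    (hne' : ∀ e, Submodule.span R (Set.range e.1) = ⊤ → φ' e ≠ 0) :
    ∃ φ : Adm R M (l + 1) → ResidueField R, Rel φ ∧
      ∀ e, Submodule.span R (Set.range e.1) = ⊤ → φ e ≠ 0 := by
  classical
  let P : Adm R M (l + 1) → Prop := fun e => Submodule.span R (Set.range e.1) = ⊤
  let val : ∀ (e : Adm R M (l + 1)) (p : Fin (l + 1)) (c : Rˣ), Piv f1 e.1 p c → ResidueField R :=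
    fun e p c h => (-1) ^ (p : ℕ) * (residue R (c : R))⁻¹ * φ' ⟨omit' (R := R) f1 e.1 p, omit_adm e h⟩
  let φ : Adm R M (l + 1) → ResidueField R := fun e =>
    if h : P e then
      val e (exists_piv hf e h).choose (exists_piv hf e h).choose_spec.choose
        (exists_piv hf e h).choose_spec.choose_spec
    else 0
  have hstr : ∀ e, P e → Strict R e.1 := fun e h => strict_of_span_eq_top hl e h
  have hval : ∀ e (_ : P e) p c (hp : Piv f1 e.1 p c), φ e = val e p c hp := by
    intro e he p c hp
    simp only [φ, dif_pos he]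
    generalize_proofs h1 h2 h3
    obtain ⟨hpp, hcc⟩ := piv_unique e.1 (hstr e he) h3 hp
    revert h3
    generalize h2.choose = c₀ at hcc ⊢
    clear h2
    revert hcc
    generalize h1.choose = p₀ at hpp ⊢
    subst hpp
    intro hcc h3
    simp only [val, hcc]
  have hnot : ∀ e, ¬ P e → φ e = 0 := fun e h => dif_neg h
  refine ⟨φ, ?_, fun e he => ?_⟩
  swap
  · obtain ⟨p, c, hp⟩ := exists_piv hf e he
    rw [hval e he p c hp]
    refine mul_ne_zero (mul_ne_zero (pow_ne_zero _ (neg_ne_zero.2 one_ne_zero))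
      (inv_ne_zero (residue_unit_ne_zero c))) (hne' _ ?_)
    exact span_omit e.1 hp he
  rintro x ((⟨e, a, ha, rfl⟩ | ⟨e, e', a, c, h1, h2, rfl⟩) | ⟨e, e', a, b, hab, h1, h2, rfl⟩)
  · rw [lc_sym]
    exact hnot e fun h => hstr e h a ha
  · rw [map_sub, map_smul, lc_sym, lc_sym, sub_eq_zero, smul_eq_mul]
    have hsb := sb_eq_of_scale a c h1 h2
    have hiff : P e ↔ P e' := by
      show Submodule.span R (Set.range e.1) = ⊤ ↔ Submodule.span R (Set.range e'.1) = ⊤
      rw [← sb_all, hsb, sb_all]
    by_cases he : P e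
    swap
    · rw [hnot e he, hnot e' (fun h => he (hiff.2 h)), mul_zero]
    have he' := hiff.1 he
    obtain ⟨p, d, hp⟩ := exists_piv hf e he
    by_cases hpa : p = a
    · subst hpa
      have hp' : Piv f1 e'.1 p (d * c) := by
        show f1 - ((d * c : Rˣ) : R) • e'.1 p ∈ _
        rw [← hsb, Units.val_mul]
        have : f1 - ((d : R) * (c : R)) • e'.1 p =
            (f1 - (d : R) • e.1 p) + (d : R) • (e.1 p - (c : R) • e'.1 p) := by
          rw [smul_sub, smul_smul]; abel
        rw [this]
        exact add_mem hp (Submodule.smul_mem _ _ h2)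
      rw [hval e he p d hp, hval e' he' p _ hp']
      have hom : (⟨omit' (R := R) f1 e.1 p, omit_adm e hp⟩ : Adm R (M ⧸ Submodule.span R {f1}) l) =
          ⟨omit' (R := R) f1 e'.1 p, omit_adm e' hp'⟩ :=
        Subtype.ext (funext fun i => congrArg Submodule.Quotient.mk (h1 _ (Fin.succAbove_ne p i)))
      simp only [val]
      rw [hom, Units.val_mul, map_mul]
      field_simp [residue_unit_ne_zero c, residue_unit_ne_zero d]
    · have hp' : Piv f1 e'.1 p d := by
        show f1 - (d : R) • e'.1 p ∈ _
        rw [← hsb, ← h1 p hpa]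
        exact hp
      rw [hval e he p d hp, hval e' he' p d hp']
      obtain ⟨i, rfl⟩ := Fin.exists_succAbove_eq (fun h : a = p => hpa h.symm)
      have := Rel.scale hφ' ⟨omit' (R := R) f1 e.1 p, omit_adm e hp⟩
        ⟨omit' (R := R) f1 e'.1 p, omit_adm e' hp'⟩ i c
        (fun j hj => congrArg Submodule.Quotient.mk (h1 _ (fun h => hj (Fin.succAbove_right_injective h))))
        (by
          show omit' (R := R) f1 e.1 p i - (c : R) • omit' (R := R) f1 e'.1 p i ∈ _
          rw [← map_sb e.1 hp i]
          exact ⟨_, h2, rfl⟩)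
      simp only [val]
      rw [this]
      ring
  · rw [map_add, lc_sym, lc_sym]
    have hiff : P e ↔ P e' := by
      show Submodule.span R (Set.range e.1) = ⊤ ↔ Submodule.span R (Set.range e'.1) = ⊤
      rw [h2, span_range_swap]
    by_cases he : P e
    swap
    · rw [hnot e he, hnot e' (fun h => he (hiff.2 h)), add_zero]
    have he' := hiff.1 he
    have hne : a ≠ b := fun h => by subst h; omega
    have hlow : spanBefore R M e'.1 b = spanBefore R M e.1 b := sb_congr fun j hj => by
      rw [h2, Function.comp_apply,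
        Equiv.swap_apply_of_ne_of_ne (fun h => by subst h; omega) (fun h => by subst h; omega)]
    have he'a : e'.1 a = e.1 b := by rw [h2, Function.comp_apply, Equiv.swap_apply_left]
    have he'b : e'.1 b = e.1 a := by rw [h2, Function.comp_apply, Equiv.swap_apply_right]
    obtain ⟨p, d, hp⟩ := exists_piv hf e he
    have homit : ∀ (q q' : Fin (l + 1)), (q = a ∧ q' = b) ∨ (q = b ∧ q' = a) →
        omit' (R := R) f1 e'.1 q' = omit' (R := R) f1 e.1 q := by
      intro q q' hq
      funext i
      refine congrArg Submodule.Quotient.mk ?_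
      rw [h2, Function.comp_apply]
      refine congrArg e.1 (Fin.ext ?_)
      rcases hq with ⟨rfl, rfl⟩ | ⟨rfl, rfl⟩ <;>
        · rw [Equiv.swap_apply_def]
          simp only [Fin.succAbove, Fin.lt_def, Fin.val_castSucc, Fin.ext_iff, apply_ite Fin.val,
            Fin.val_succ]
          split_ifs <;> omega
    by_cases hpb : p = b
    · subst hpb
      have hp' : Piv f1 e'.1 a d := by
        show f1 - (d : R) • e'.1 a ∈ _
        rw [he'a]
        refine sb_mono (R := R) e'.1 (show (p : ℕ) ≤ a by omega) ?_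
        rw [hlow]; exact hp
      rw [hval e he p d hp, hval e' he' a d hp']
      simp only [val]
      rw [Subtype.ext (homit p a (Or.inr ⟨rfl, rfl⟩)) (a1 := (⟨omit' (R := R) f1 e'.1 a, omit_adm e' hp'⟩ :
          Adm R (M ⧸ Submodule.span R {f1}) l)) (a2 := ⟨omit' (R := R) f1 e.1 p, omit_adm e hp⟩), ← hab, pow_succ]
      ring
    by_cases hpa : p = a
    · subst hpa
      have hm : f1 - (d : R) • e.1 p ∈ spanBefore R M e.1 ((b : ℕ) + 1) := by rw [hab]; exact hp
      rw [sb_succ] at hm
      obtain ⟨y, hy, s, hs, hys⟩ := Submodule.mem_sup.1 hm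
      obtain ⟨g, rfl⟩ := Submodule.mem_span_singleton.1 hy
      by_cases hg : IsUnit g
      · obtain ⟨g, rfl⟩ := hg
        have hp' : Piv f1 e'.1 p g := by
          show f1 - (g : R) • e'.1 p ∈ _
          have : f1 - (g : R) • e'.1 p = (d : R) • e'.1 b + s := by
            rw [he'a, he'b]
            have : f1 = (g : R) • e.1 b + s + (d : R) • e.1 p := by rw [hys, sub_add_cancel]
            rw [this]; abel
          rw [this]
          exact add_mem (Submodule.smul_mem _ _ (mem_sb _ _ (by omega)))
            (sb_mono _ (by omega) (hlow.symm ▸ hs))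
        rw [hval e he p d hp, hval e' he' p g hp']
        obtain ⟨i, hi⟩ := Fin.exists_succAbove_eq (fun h : b = p => hpb h.symm)
        have hs' : Submodule.Quotient.mk s ∈
            spanBefore R (M ⧸ Submodule.span R {f1}) (omit' (R := R) f1 e'.1 p) i := by
          rw [← map_sb e'.1 hp' i, hi, hlow]
          exact ⟨s, hs, rfl⟩
        have hrel := Rel.scale hφ' ⟨omit' (R := R) f1 e'.1 p, omit_adm e' hp'⟩
          ⟨omit' (R := R) f1 e.1 p, omit_adm e hp⟩ i (-(g * d⁻¹))
          (fun j hj => congrArg Submodule.Quotient.mk (by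
            rw [h2, Function.comp_apply, Equiv.swap_apply_of_ne_of_ne (Fin.succAbove_ne p j)
              (fun h => hj (Fin.succAbove_right_injective (h.trans hi.symm)))]))
          (by
            show omit' (R := R) f1 e'.1 p i - ((-(g * d⁻¹) : Rˣ) : R) • omit' (R := R) f1 e.1 p i ∈ _
            have heq : omit' (R := R) f1 e'.1 p i - ((-(g * d⁻¹) : Rˣ) : R) • omit' (R := R) f1 e.1 p i =
                -((↑d⁻¹ : R) • Submodule.Quotient.mk s) := by
              simp only [omit', hi, he'b]
              rw [← Submodule.Quotient.mk_smul, ← Submodule.Quotient.mk_smul, ← Submodule.Quotient.mk_neg,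
                ← Submodule.Quotient.mk_sub, Submodule.Quotient.eq, Submodule.mem_span_singleton]
              refine ⟨(↑d⁻¹ : R), ?_⟩
              have hfe : f1 = (g : R) • e.1 b + s + (d : R) • e.1 p := by rw [hys, sub_add_cancel]
              rw [hfe]
              simp only [Units.val_neg, Units.val_mul, neg_smul, smul_add, smul_smul, Units.inv_mul, one_smul,
                mul_comm (↑d⁻¹ : R) (g : R)]
              abel
            rw [heq]
            exact neg_mem (Submodule.smul_mem _ _ hs'))
        simp only [val]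
        rw [hrel, Units.val_neg, map_neg, Units.val_mul, map_mul, map_units_inv]
        field_simp [residue_unit_ne_zero d, residue_unit_ne_zero g]
        ring
      · have hp' : Piv f1 e'.1 b d := by
          show f1 - (d : R) • e'.1 b ∈ _
          rw [he'b, ← hys, hlow]
          exact add_mem (e.2 b g ((mem_maximalIdeal _).2 hg)) hs
        rw [hval e he p d hp, hval e' he' b d hp']
        simp only [val]
        rw [Subtype.ext (homit p b (Or.inl ⟨rfl, rfl⟩)) (a1 := (⟨omit' (R := R) f1 e'.1 b, omit_adm e' hp'⟩ :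
          Adm R (M ⧸ Submodule.span R {f1}) l)) (a2 := ⟨omit' (R := R) f1 e.1 p, omit_adm e hp⟩), ← hab, pow_succ]
        ring
    have hpne : e'.1 p = e.1 p := by
      rw [h2, Function.comp_apply, Equiv.swap_apply_of_ne_of_ne hpa hpb]
    have hsp : spanBefore R M e'.1 p = spanBefore R M e.1 p := by
      have hp1 : (p : ℕ) < b ∨ (a : ℕ) < p := by
        have h3 : (p : ℕ) ≠ a := fun h => hpa (Fin.ext h)
        have h4 : (p : ℕ) ≠ b := fun h => hpb (Fin.ext h)
        omega
      rcases hp1 with hp1 | hp1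
      · exact sb_congr fun j hj => by
          rw [h2, Function.comp_apply,
            Equiv.swap_apply_of_ne_of_ne (fun h => by subst h; omega) (fun h => by subst h; omega)]
      · refine le_antisymm (sb_le fun j hj => ?_) (sb_le fun j hj => ?_)
        · rw [h2, Function.comp_apply]
          refine mem_sb _ _ ?_
          rw [Equiv.swap_apply_def]; split_ifs <;> omega
        · have : e.1 j = e'.1 (Equiv.swap a b j) := by rw [h2, Function.comp_apply, Equiv.swap_apply_self]
          rw [this]
          refine mem_sb _ _ ?_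
          rw [Equiv.swap_apply_def]; split_ifs <;> omega
    have hp' : Piv f1 e'.1 p d := by
      show f1 - (d : R) • e'.1 p ∈ _
      rw [hpne, hsp]; exact hp
    rw [hval e he p d hp, hval e' he' p d hp']
    obtain ⟨i, hi⟩ := Fin.exists_succAbove_eq (fun h : a = p => hpa h.symm)
    obtain ⟨j, hj⟩ := Fin.exists_succAbove_eq (fun h : b = p => hpb h.symm)
    have hji : (j : ℕ) + 1 = i := by
      have e1 : (a : ℕ) = (p.succAbove i : ℕ) := by rw [hi]
      have e2 : (b : ℕ) = (p.succAbove j : ℕ) := by rw [hj]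
      simp only [Fin.succAbove, Fin.lt_def, Fin.val_castSucc, apply_ite Fin.val, Fin.val_succ] at e1 e2
      split_ifs at e1 e2 <;> omega
    have := Rel.swap hφ' ⟨omit' (R := R) f1 e.1 p, omit_adm e hp⟩
      ⟨omit' (R := R) f1 e'.1 p, omit_adm e' hp'⟩ i j hji
      (fun r hr => by
        show r • omit' (R := R) f1 e.1 p i ∈ _
        rw [← map_sb e.1 hp j, hj]
        refine ⟨r • e.1 a, h1 r hr, ?_⟩
        simp only [omit', hi]
        rfl)
      (funext fun k => congrArg Submodule.Quotient.mk (by
        rw [h2, Function.comp_apply]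
        congr 1
        rw [← hi, ← hj, ← Fin.succAbove_right_injective.swap_apply]))
    simp only [val]
    rw [← mul_add, this, mul_zero]

end step

/-- Existence of a nonvanishing functional and of a spanning admissible tuple. -/
theorem exists_functional : ∀ (l : ℕ) (M : Type v) [AddCommGroup M] [Module R M],
    Module.length R M = l → ∃ φ : Adm R M l → ResidueField R, Rel φ ∧
      (∀ e, Submodule.span R (Set.range e.1) = ⊤ → φ e ≠ 0) ∧
      ∃ e : Adm R M l, Submodule.span R (Set.range e.1) = ⊤ := by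
  intro l
  induction l with
  | zero =>
    intro M _ _ hl
    haveI : Subsingleton M := Module.length_eq_zero_iff.1 (by simpa using hl)
    refine ⟨fun _ => 1, ?_, fun _ _ => one_ne_zero, ⟨Fin.elim0, fun i => i.elim0⟩, Subsingleton.elim _ _⟩
    rintro x ((⟨e, a, _⟩ | ⟨e, e', a, _⟩) | ⟨e, e', a, _⟩) <;> exact a.elim0
  | succ l ih =>
    intro M _ _ hl
    haveI : Nontrivial M := Module.length_pos_iff.1 (by rw [hl]; exact_mod_cast Nat.succ_pos l)
    have hfl : IsFiniteLength R M := Module.length_ne_top_iff.1 (by rw [hl]; exact ENat.natCast_ne_top _)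
    obtain ⟨x, hx, hmx, hlx⟩ := exists_socle (R := R) hfl
    have hq : Module.length R (M ⧸ Submodule.span R {x}) = l := by
      have h1 := Module.length_eq_add_of_exact (Submodule.span R {x}).subtype (Submodule.span R {x}).mkQ
        (Submodule.injective_subtype _) (Submodule.mkQ_surjective _) (LinearMap.exact_subtype_mkQ _)
      rw [hl, hlx, Nat.cast_add, Nat.cast_one, add_comm (1 : ℕ∞)] at h1
      exact (WithTop.add_right_cancel ENat.one_ne_top h1).symm
    obtain ⟨φ', hφ', hne', e0, he0⟩ := ih (M ⧸ Submodule.span R {x}) hq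
    obtain ⟨φ, hφ, hne⟩ := step hl hx φ' hφ' hne'
    refine ⟨φ, hφ, hne, ?_⟩
    choose lift hlift using Submodule.mkQ_surjective (Submodule.span R {x})
    let e : Fin (l + 1) → M := Fin.cons x fun i => lift (e0.1 i)
    have hcomap : ∀ i : Fin l, (spanBefore R (M ⧸ Submodule.span R {x}) e0.1 i).comap
        (Submodule.span R {x}).mkQ ≤ spanBefore R M e ((i : ℕ) + 1) := by
      intro i y hy
      have hle : spanBefore R (M ⧸ Submodule.span R {x}) e0.1 i ≤
          (spanBefore R M e ((i : ℕ) + 1)).map (Submodule.span R {x}).mkQ := by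
        refine sb_le fun j hj => ⟨e j.succ, mem_sb e _ ?_, ?_⟩
        · rw [Fin.val_succ]; omega
        · rw [show e j.succ = lift (e0.1 j) from Fin.cons_succ _ _ _, hlift]
      obtain ⟨z, hz, hzy⟩ := hle hy
      obtain ⟨t, ht⟩ := Submodule.mem_span_singleton.1
        ((Submodule.Quotient.eq (Submodule.span R {x})).1 hzy.symm)
      have hxm : x ∈ spanBefore R M e ((i : ℕ) + 1) := mem_sb e 0 (Nat.succ_pos _)
      have := add_mem hz (Submodule.smul_mem _ t hxm)
      rwa [ht, add_sub_cancel] at this
    refine ⟨⟨e, fun i r hr => ?_⟩, ?_⟩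
    · refine Fin.cases ?_ (fun k => ?_) i
      · rw [show e 0 = x from Fin.cons_zero _ _, hmx r hr]; exact zero_mem _
      · rw [Fin.val_succ]
        apply hcomap k
        rw [Submodule.mem_comap, map_smul, show e k.succ = lift (e0.1 k) from Fin.cons_succ _ _ _, hlift]
        exact e0.2 k r hr
    · rw [eq_top_iff]
      intro y _
      have hle : Submodule.span R (Set.range e0.1) ≤
          (Submodule.span R (Set.range e)).map (Submodule.span R {x}).mkQ := by
        rw [Submodule.span_le]
        rintro _ ⟨j, rfl⟩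
        exact ⟨e j.succ, Submodule.subset_span ⟨_, rfl⟩,
          by rw [show e j.succ = lift (e0.1 j) from Fin.cons_succ _ _ _, hlift]⟩
      obtain ⟨z, hz, hzy⟩ := hle (by rw [he0]; trivial : Submodule.Quotient.mk y ∈ _)
      obtain ⟨t, ht⟩ := Submodule.mem_span_singleton.1
        ((Submodule.Quotient.eq (Submodule.span R {x})).1 hzy.symm)
      have hxm : x ∈ Submodule.span R (Set.range e) := Submodule.subset_span ⟨0, rfl⟩
      have := add_mem hz (Submodule.smul_mem _ t hxm)
      rwa [ht, add_sub_cancel] at this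

theorem mk_ne_zero (l : ℕ) (hl : Module.length R M = l) (e : Adm R M l)
    (he : Submodule.span R (Set.range e.1) = ⊤) : (Submodule.Quotient.mk (sym R M e) : DetOfLen R M l) ≠ 0 := by
  obtain ⟨φ, hφ, hne, -⟩ := exists_functional (R := R) l M hl
  intro h
  have hle : Submodule.span (ResidueField R) (relSet R M l) ≤
      LinearMap.ker (Finsupp.linearCombination (ResidueField R) φ) := Submodule.span_le.2 hφ
  have := hle ((Submodule.Quotient.mk_eq_zero _).1 h)
  rw [LinearMap.mem_ker, lc_sym] at this
  exact hne e he this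

end CycDetLib
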