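import Groth.Agent.CycDetLib.Index

/-!
# The index of a lattice along a flag, and its behaviour under the moves defining the determinant
-/

set_option autoImplicit false
universe u

namespace CycDetIndex

open IsLocalRing CycDet CycDetLib Groth.Agent.OrdDet

variable {R : Type u} [CommRing R] [IsNoetherianRing R] [IsLocalRing R] {q : Ideal R} [q.IsPrime]

variable {V : Type u} [AddCommGroup V] [Module R V] [Module (Localization.AtPrime q) V] [IsScalarTower R (Localization.AtPrime q) V] {l : ℕ}

theorem le_of_strict {M : Type u} [AddCommGroup M] [Module (Localization.AtPrime q) M] {e : Fin l → M} (h : Strict (Localization.AtPrime q) e) :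
    (l : ℕ∞) ≤ Module.length (Localization.AtPrime q) M := by
  let g : Fin (l + 1) → Submodule (Localization.AtPrime q) M := fun i => spanBefore (Localization.AtPrime q) M e i
  have hstep : ∀ i : Fin l, g i.castSucc < g i.succ := fun i => by
    simp only [g, Fin.val_castSucc, Fin.val_succ]
    refine lt_of_le_of_ne (sb_mono _ (Nat.le_succ _)) fun he => h i ?_
    rw [he]; exact mem_sb _ _ (Nat.lt_succ_self _)
  have h1 := Order.LTSeries.length_le_krullDim (LTSeries.mk l g (Fin.strictMono_iff_lt_succ.2 hstep))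
  rw [← Module.coe_length] at h1
  exact WithBot.coe_le_coe.1 h1

theorem length_eq_of_strict_span {M : Type u} [AddCommGroup M] [Module (Localization.AtPrime q) M] (e : Adm (Localization.AtPrime q) M l)
    (h : Strict (Localization.AtPrime q) e.1) (ht : Submodule.span (Localization.AtPrime q) (Set.range e.1) = ⊤) : Module.length (Localization.AtPrime q) M = l := by
  refine le_antisymm ?_ (le_of_strict h)
  have h1 := length_sb_le e l le_rfl l
  rw [sb_all, ht, Module.length_top] at h1
  exact le_trans le_self_add h1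

/-- The class of an admissible tuple. -/
noncomputable def cl (e : Adm (Localization.AtPrime q) V l) : DetOfLen (Localization.AtPrime q) V l := Submodule.Quotient.mk (sym (Localization.AtPrime q) V e)

/-- The flag step `a ↦ a e_i` into `V / F_i`. -/
noncomputable def lam (e : Adm (Localization.AtPrime q) V l) (i : Fin l) : K q →ₗ[R] V ⧸ spanBefore (Localization.AtPrime q) V e.1 i :=
  (Submodule.liftQ (maximalIdeal (Localization.AtPrime q))
    ((spanBefore (Localization.AtPrime q) V e.1 i).mkQ.comp (LinearMap.toSpanSingleton (Localization.AtPrime q) V (e.1 i)))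
    (fun r hr => LinearMap.mem_ker.2 ((Submodule.Quotient.mk_eq_zero _).2 (e.2 i r hr)))).restrictScalars R

theorem lam_residue (e : Adm (Localization.AtPrime q) V l) (i : Fin l) (r : (Localization.AtPrime q)) :
    lam e i (residue (Localization.AtPrime q) r) = Submodule.Quotient.mk (r • e.1 i) := rfl

theorem lam_injective {e : Adm (Localization.AtPrime q) V l} (h : Strict (Localization.AtPrime q) e.1) (i : Fin l) : Function.Injective (lam e i) := by
  rw [← LinearMap.ker_eq_bot, eq_bot_iff]
  intro x hx
  obtain ⟨r, rfl⟩ := residue_surjective x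
  rw [LinearMap.mem_ker, lam_residue, Submodule.Quotient.mk_eq_zero] at hx
  rw [Submodule.mem_bot, residue_eq_zero_iff]
  by_contra hr
  obtain ⟨v, hv⟩ := IsLocalRing.notMem_maximalIdeal.1 hr
  apply h i
  have := (spanBefore (Localization.AtPrime q) V e.1 i).smul_mem (↑v⁻¹ : (Localization.AtPrime q)) hx
  rwa [smul_smul, ← hv, Units.inv_mul, one_smul] at this

/-- The `i`-th graded piece of a lattice. -/
noncomputable def gr (e : Adm (Localization.AtPrime q) V l) (L : Submodule R V) (i : Fin l) : Submodule R (K q) :=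
  (L.map ((spanBefore (Localization.AtPrime q) V e.1 i).mkQ.restrictScalars R)).comap (lam e i)

theorem mem_gr (e : Adm (Localization.AtPrime q) V l) (L : Submodule R V) (i : Fin l) (r : (Localization.AtPrime q)) :
    residue (Localization.AtPrime q) r ∈ gr e L i ↔ ∃ x ∈ L, x - r • e.1 i ∈ spanBefore (Localization.AtPrime q) V e.1 i := by
  simp only [gr, Submodule.mem_comap, lam_residue, Submodule.mem_map, LinearMap.coe_restrictScalars,
    Submodule.mkQ_apply, Submodule.Quotient.eq]

/-- The index of a lattice along the flag of `e`. -/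
noncomputable def delta (e : Adm (Localization.AtPrime q) V l) (L : Submodule R V) : ℤ := ∑ i : Fin l, dd q (gr e L i)

theorem smul_R_eq (a : R) (v : V) : a • v = (algebraMap R (Localization.AtPrime q) a) • v := (algebraMap_smul (Localization.AtPrime q) a v).symm

theorem gr_isLat {e : Adm (Localization.AtPrime q) V l} (h : Strict (Localization.AtPrime q) e.1) {L : Submodule R V} (hL : IsLat q L) (i : Fin l) :
    IsLat q (gr e L i) := by
  refine ⟨Submodule.fg_of_fg_map_injective (lam e i) (lam_injective h i) ?_, fun v => ?_⟩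
  · rw [gr, Submodule.map_comap_eq]
    exact fg_of_le inf_le_right (hL.1.map _)
  · obtain ⟨r, rfl⟩ := residue_surjective v
    obtain ⟨s, hs, hsL⟩ := hL.2 (r • e.1 i)
    refine ⟨s, hs, ?_⟩
    show lam e i (s • residue (Localization.AtPrime q) r) ∈ L.map _
    rw [map_smul, lam_residue]
    exact ⟨_, hsL, LinearMap.map_smul _ s _⟩

omit [IsNoetherianRing R] [IsLocalRing R] in
theorem inf_ker_mkQ (L : Submodule R V) (P Q : Submodule (Localization.AtPrime q) V) (hPQ : P ≤ Q) :
    L ⊓ Q.restrictScalars R ⊓ LinearMap.ker (P.mkQ.restrictScalars R) = L ⊓ P.restrictScalars R := by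
  ext x
  simp only [Submodule.mem_inf, Submodule.restrictScalars_mem, LinearMap.mem_ker,
    LinearMap.coe_restrictScalars, Submodule.mkQ_apply, Submodule.Quotient.mk_eq_zero]
  exact ⟨fun h => ⟨h.1.1, h.2⟩, fun h => ⟨⟨h.1, hPQ h.2⟩, h.2⟩⟩

theorem map_step (e : Adm (Localization.AtPrime q) V l) (L : Submodule R V) (i : Fin l) :
    (L ⊓ (spanBefore (Localization.AtPrime q) V e.1 (i + 1)).restrictScalars R).map
        ((spanBefore (Localization.AtPrime q) V e.1 i).mkQ.restrictScalars R) = (gr e L i).map (lam e i) := by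
  apply le_antisymm
  · rintro _ ⟨x, ⟨hxL, hx⟩, rfl⟩
    rw [SetLike.mem_coe, Submodule.restrictScalars_mem, sb_succ, Submodule.mem_sup] at hx
    obtain ⟨y, hy, z, hz, rfl⟩ := hx
    obtain ⟨r, rfl⟩ := Submodule.mem_span_singleton.1 hy
    refine ⟨residue (Localization.AtPrime q) r, (mem_gr e L i r).2 ⟨_, hxL, by simpa using hz⟩, ?_⟩
    rw [lam_residue, LinearMap.coe_restrictScalars, Submodule.mkQ_apply, Submodule.Quotient.eq]
    simpa using neg_mem hz
  · rintro _ ⟨c, hc, rfl⟩
    obtain ⟨r, rfl⟩ := residue_surjective c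
    obtain ⟨x, hxL, hx⟩ := (mem_gr e L i r).1 hc
    refine ⟨x, ⟨hxL, ?_⟩, ?_⟩
    · show x ∈ spanBefore (Localization.AtPrime q) V e.1 (i + 1)
      rw [← sub_add_cancel x (r • e.1 i)]
      exact add_mem (sb_mono _ (Nat.le_succ _) hx) (Submodule.smul_mem _ _ (mem_sb _ _ (Nat.lt_succ_self _)))
    · rw [lam_residue, LinearMap.coe_restrictScalars, Submodule.mkQ_apply, Submodule.Quotient.eq]
      exact hx

theorem delta_sub (hq : ringKrullDim (R ⧸ q) = 1) {e : Adm (Localization.AtPrime q) V l} (h : Strict (Localization.AtPrime q) e.1)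
    (ht : Submodule.span (Localization.AtPrime q) (Set.range e.1) = ⊤) {L L' : Submodule R V} (hL : IsLat q L) (hL' : IsLat q L')
    (hle : L' ≤ L) : qlen L L' ≠ ⊤ ∧ delta e L - delta e L' = ((qlen L L').toNat : ℤ) := by
  classical
  have hgle : ∀ i, gr e L' i ≤ gr e L i := fun i => Submodule.comap_mono (Submodule.map_mono hle)
  have key : ∀ j : ℕ, j ≤ l →
      qlen (L ⊓ (spanBefore (Localization.AtPrime q) V e.1 j).restrictScalars R) (L' ⊓ (spanBefore (Localization.AtPrime q) V e.1 j).restrictScalars R) =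
        ∑ i ∈ (Finset.univ : Finset (Fin l)).filter (fun i : Fin l => (i : ℕ) < j), qlen (gr e L i) (gr e L' i) := by
    intro j
    induction j with
    | zero =>
      intro _
      rw [Finset.filter_false_of_mem (fun i _ => Nat.not_lt_zero _), Finset.sum_empty, sb_zero,
        Submodule.restrictScalars_bot, inf_bot_eq, inf_bot_eq, qlen_self]
    | succ j ih =>
      intro hj
      let i : Fin l := ⟨j, hj⟩
      have hfil : (Finset.univ : Finset (Fin l)).filter (fun k : Fin l => (k : ℕ) < j + 1) =
          insert i (Finset.univ.filter fun k : Fin l => (k : ℕ) < j) := by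
        ext k
        simp only [Finset.mem_filter, Finset.mem_univ, true_and, Finset.mem_insert, Fin.ext_iff, i]
        omega
      rw [hfil, Finset.sum_insert (by simp [i]), ← ih (by omega),
        qlen_split ((spanBefore (Localization.AtPrime q) V e.1 i).mkQ.restrictScalars R)
          (inf_le_inf_right _ hle : L' ⊓ (spanBefore (Localization.AtPrime q) V e.1 (i + 1)).restrictScalars R ≤ _),
        inf_ker_mkQ L _ _ (sb_mono _ (Nat.le_succ _)), inf_ker_mkQ L' _ _ (sb_mono _ (Nat.le_succ _)),
        map_step, map_step, qlen_map _ (lam_injective h i), add_comm]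
  have k1 := key l le_rfl
  rw [sb_all, ht, Submodule.restrictScalars_top, inf_top_eq, inf_top_eq,
    Finset.filter_true_of_mem (fun i _ => i.2)] at k1
  have fin : ∀ i, qlen (gr e L i) (gr e L' i) ≠ ⊤ := fun i =>
    qlen_lat_ne_top hq (ann_K q) (gr_isLat h hL i).1 (gr_isLat h hL' i)
  have hsum : ∀ s : Finset (Fin l), (∑ i ∈ s, qlen (gr e L i) (gr e L' i)) =
      ((∑ i ∈ s, (qlen (gr e L i) (gr e L' i)).toNat : ℕ) : ℕ∞) := fun s => by
    rw [Nat.cast_sum]
    exact Finset.sum_congr rfl fun i _ => (ENat.natCast_toNat (fin i)).symm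
  rw [hsum] at k1
  refine ⟨k1 ▸ ENat.natCast_ne_top _, ?_⟩
  rw [k1, ENat.toNat_natCast, Nat.cast_sum, delta, delta, ← Finset.sum_sub_distrib]
  refine Finset.sum_congr rfl fun i _ => ?_
  have t := J_trans hq (ann_K q) (gr_isLat h hL i) (gr_isLat h hL' i) (isLat_A0 q)
  rw [J_of_le (hgle i)] at t
  unfold dd
  omega

/-- Two tuples whose symbols and indices differ compatibly. -/
def Comp (e e' : Adm (Localization.AtPrime q) V l) : Prop :=
  ∃ c : K q, c ≠ 0 ∧ cl e = c • cl e' ∧ ∀ L : Submodule R V, IsLat q L → delta e' L = delta e L - od q c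

theorem comp_refl (hq : ringKrullDim (R ⧸ q) = 1) (e : Adm (Localization.AtPrime q) V l) : Comp e e :=
  ⟨1, one_ne_zero, (one_smul _ _).symm, fun L _ => by rw [od_one q hq, sub_zero]⟩

theorem comp_trans (hq : ringKrullDim (R ⧸ q) = 1) {e e' e'' : Adm (Localization.AtPrime q) V l} (h : Comp e e') (h' : Comp e' e'') :
    Comp e e'' := by
  obtain ⟨c, hc, h1, h2⟩ := h
  obtain ⟨d, hd, k1, k2⟩ := h'
  refine ⟨c * d, mul_ne_zero hc hd, by rw [h1, k1, mul_smul], fun L hL => ?_⟩
  rw [od_mul q hq hc hd, k2 L hL, h2 L hL]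
  ring

theorem gr_congr {e e' : Adm (Localization.AtPrime q) V l} {i : Fin l} (h1 : e.1 i = e'.1 i)
    (h2 : spanBefore (Localization.AtPrime q) V e.1 i = spanBefore (Localization.AtPrime q) V e'.1 i) (L : Submodule R V) : gr e L i = gr e' L i := by
  ext x
  obtain ⟨r, rfl⟩ := residue_surjective x
  rw [mem_gr, mem_gr, h1, h2]

theorem comp_scale (hq : ringKrullDim (R ⧸ q) = 1) (e e' : Adm (Localization.AtPrime q) V l) (h : Strict (Localization.AtPrime q) e.1) (a : Fin l)
    (c : (Localization.AtPrime q)ˣ) (h1 : ∀ j, j ≠ a → e.1 j = e'.1 j)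
    (h2 : e.1 a - (c : (Localization.AtPrime q)) • e'.1 a ∈ spanBefore (Localization.AtPrime q) V e.1 a) : Comp e e' := by
  have hc : residue (Localization.AtPrime q) (c : (Localization.AtPrime q)) ≠ 0 := residue_unit_ne_zero c
  refine ⟨residue (Localization.AtPrime q) (c : (Localization.AtPrime q)), hc, ?_, fun L hL => ?_⟩
  · rw [cl, cl, ← Submodule.Quotient.mk_smul, Submodule.Quotient.eq]
    exact Submodule.subset_span (Or.inl (Or.inr ⟨e, e', a, c, h1, h2, rfl⟩))
  · have hF := sb_eq_of_scale a c h1 h2
    have hgr : gr e' L a = (gr e L a).map (mulK q (residue (Localization.AtPrime q) (c : (Localization.AtPrime q)))) := by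
      have key : ∀ r : (Localization.AtPrime q), residue (Localization.AtPrime q) r ∈ gr e L a ↔ residue (Localization.AtPrime q) (r * c) ∈ gr e' L a := fun r => by
        rw [mem_gr, mem_gr, ← hF]
        refine exists_congr fun x => and_congr_right fun _ => ?_
        have : x - (r * (c : (Localization.AtPrime q))) • e'.1 a = (x - r • e.1 a) + r • (e.1 a - (c : (Localization.AtPrime q)) • e'.1 a) := by
          rw [mul_smul, smul_sub]; abel
        rw [this]
        exact (Submodule.add_mem_iff_left _ (Submodule.smul_mem _ r h2)).symm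
      ext x
      constructor
      · intro hx
        obtain ⟨r, rfl⟩ := residue_surjective x
        refine ⟨residue (Localization.AtPrime q) (r * ↑c⁻¹), (key _).2 ?_, ?_⟩
        · rwa [mul_assoc, Units.inv_mul, mul_one]
        · rw [mulK_apply, ← map_mul, mul_comm, mul_assoc, Units.inv_mul, mul_one]
      · rintro ⟨y, hy, rfl⟩
        obtain ⟨r, rfl⟩ := residue_surjective y
        rw [mulK_apply, ← map_mul, mul_comm]
        exact (key r).1 hy
    have hne : ∀ i, i ≠ a → dd q (gr e' L i) = dd q (gr e L i) := fun i hi => by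
      rw [gr_congr (h1 i hi) (hF i) L]
    unfold delta
    rw [← Finset.sum_erase_add _ _ (Finset.mem_univ a), ← Finset.sum_erase_add _ _ (Finset.mem_univ a),
      Finset.sum_congr rfl (fun i hi => hne i (Finset.ne_of_mem_erase hi)), hgr,
      dd_mul q hq (gr_isLat h hL a) hc]
    ring

theorem comp_swap (hq : ringKrullDim (R ⧸ q) = 1) (e e' : Adm (Localization.AtPrime q) V l) (h : Strict (Localization.AtPrime q) e.1)
    (h' : Strict (Localization.AtPrime q) e'.1) (a b : Fin l) (hab : (b : ℕ) + 1 = a)
    (h1 : ∀ r ∈ maximalIdeal (Localization.AtPrime q), r • e.1 a ∈ spanBefore (Localization.AtPrime q) V e.1 b)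
    (h2 : e'.1 = e.1 ∘ Equiv.swap a b) : Comp e e' := by
  refine ⟨-1, neg_ne_zero.2 one_ne_zero, ?_, fun L hL => ?_⟩
  · rw [neg_one_smul, cl, cl, ← Submodule.Quotient.mk_neg, Submodule.Quotient.eq, sub_neg_eq_add]
    exact Submodule.subset_span (Or.inr ⟨e, e', a, b, hab, h1, h2, rfl⟩)
  rw [od_neg_one q hq, sub_zero]
  have hab' : a ≠ b := fun h => by subst h; omega
  have e'a : e'.1 a = e.1 b := by rw [h2]; simp
  have e'b : e'.1 b = e.1 a := by rw [h2]; simp
  have e'o : ∀ j, j ≠ a → j ≠ b → e'.1 j = e.1 j := fun j ha hb => by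
    rw [h2, Function.comp_apply, Equiv.swap_apply_of_ne_of_ne ha hb]
  set F := spanBefore (Localization.AtPrime q) V e.1 b with hF
  have hFb : spanBefore (Localization.AtPrime q) V e'.1 b = F := sb_congr fun j hj =>
    e'o j (fun h => by subst h; omega) (fun h => by subst h; omega)
  have hsame : ∀ i : Fin l, i ≠ a → i ≠ b → gr e' L i = gr e L i := by
    intro i ha hb
    refine gr_congr (e'o i ha hb) ?_ L
    rcases Nat.lt_or_ge (i : ℕ) b with hi | hi
    · exact sb_congr fun j hj => e'o j (fun h => by subst h; omega) (fun h => by subst h; omega)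
    · have hia : (a : ℕ) < i := by
        have := Fin.val_ne_iff.2 ha; have := Fin.val_ne_iff.2 hb; omega
      refine le_antisymm (sb_le fun j hj => ?_) (sb_le fun j hj => ?_)
      · by_cases hja : j = a
        · subst hja; rw [e'a]; exact mem_sb _ _ (by omega)
        by_cases hjb : j = b
        · subst hjb; rw [e'b]; exact mem_sb _ _ (by omega)
        rw [e'o j hja hjb]; exact mem_sb _ _ hj
      · by_cases hja : j = a
        · subst hja; rw [← e'b]; exact mem_sb _ _ (by omega)
        by_cases hjb : j = b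
        · subst hjb; rw [← e'a]; exact mem_sb _ _ (by omega)
        rw [← e'o j hja hjb]; exact mem_sb _ _ hj
  -- the two lines in `V / F`
  have hkill : ∀ w : V, (∀ r ∈ maximalIdeal (Localization.AtPrime q), r • w ∈ F) →
      maximalIdeal (Localization.AtPrime q) ≤ LinearMap.ker (F.mkQ.comp (LinearMap.toSpanSingleton (Localization.AtPrime q) V w)) := fun w hw r hr =>
    LinearMap.mem_ker.2 ((Submodule.Quotient.mk_eq_zero _).2 (hw r hr))
  let Φ : K q × K q →ₗ[R] V ⧸ F :=
    LinearMap.coprod ((Submodule.liftQ _ _ (hkill (e.1 b) (e.2 b))).restrictScalars R)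
      ((Submodule.liftQ _ _ (hkill (e.1 a) h1)).restrictScalars R)
  have hΦ : ∀ r s : (Localization.AtPrime q), Φ (residue (Localization.AtPrime q) r, residue (Localization.AtPrime q) s) = Submodule.Quotient.mk (r • e.1 b + s • e.1 a) :=
    fun r s => rfl
  have hFa : spanBefore (Localization.AtPrime q) V e.1 a = Submodule.span (Localization.AtPrime q) {e.1 b} ⊔ F := by rw [← hab]; exact sb_succ e.1 b
  have hFa' : spanBefore (Localization.AtPrime q) V e'.1 a = Submodule.span (Localization.AtPrime q) {e.1 a} ⊔ F := by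
    rw [← hab, sb_succ e'.1 b, e'b, hFb]
  have hΦi : Function.Injective Φ := by
    rw [← LinearMap.ker_eq_bot, eq_bot_iff]
    rintro ⟨x, y⟩ hxy
    obtain ⟨r, rfl⟩ := residue_surjective x
    obtain ⟨s, rfl⟩ := residue_surjective y
    rw [LinearMap.mem_ker, hΦ, Submodule.Quotient.mk_eq_zero] at hxy
    have hs : s ∈ maximalIdeal (Localization.AtPrime q) := by
      by_contra hs
      obtain ⟨v, hv⟩ := IsLocalRing.notMem_maximalIdeal.1 hs
      apply h a
      have : e.1 a = (↑v⁻¹ : (Localization.AtPrime q)) • ((r • e.1 b + s • e.1 a) - r • e.1 b) := by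
        rw [add_sub_cancel_left, smul_smul, ← hv, Units.inv_mul, one_smul]
      rw [this]
      exact Submodule.smul_mem _ _ (sub_mem (sb_mono _ (by omega) hxy)
        (Submodule.smul_mem _ _ (mem_sb _ _ (by omega))))
    have hr : r • e.1 b ∈ F := by
      have := sub_mem hxy (h1 s hs)
      rwa [add_sub_cancel_right] at this
    have hr' : residue (Localization.AtPrime q) r = 0 := by
      apply lam_injective h b
      rw [map_zero, lam_residue, Submodule.Quotient.mk_eq_zero]
      exact hr
    rw [(residue_eq_zero_iff s).2 hs, hr']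
    exact Submodule.zero_mem _
  set B := (L.map (F.mkQ.restrictScalars R)).comap Φ with hB
  have memB : ∀ r s : (Localization.AtPrime q), ((residue (Localization.AtPrime q) r, residue (Localization.AtPrime q) s) ∈ B) ↔ ∃ x ∈ L, x - (r • e.1 b + s • e.1 a) ∈ F := by
    intro r s
    simp only [hB, Submodule.mem_comap, hΦ, Submodule.mem_map, LinearMap.coe_restrictScalars,
      Submodule.mkQ_apply, Submodule.Quotient.eq]
  have hBlat : IsLat q B := by
    refine ⟨Submodule.fg_of_fg_map_injective Φ hΦi ?_, fun v => ?_⟩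
    · rw [hB, Submodule.map_comap_eq]
      exact fg_of_le inf_le_right (hL.1.map _)
    · obtain ⟨x, y⟩ := v
      obtain ⟨r, rfl⟩ := residue_surjective x
      obtain ⟨s, rfl⟩ := residue_surjective y
      obtain ⟨t, htq, ht⟩ := hL.2 (r • e.1 b + s • e.1 a)
      refine ⟨t, htq, ?_⟩
      show Φ (t • (residue (Localization.AtPrime q) r, residue (Localization.AtPrime q) s)) ∈ L.map _
      rw [map_smul, hΦ]
      exact ⟨_, ht, LinearMap.map_smul _ t _⟩
  have g1 : gr e L b = B.comap (LinearMap.inl R (K q) (K q)) := by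
    ext x
    obtain ⟨r, rfl⟩ := residue_surjective x
    rw [mem_gr, Submodule.mem_comap, LinearMap.inl_apply, ← map_zero (residue (Localization.AtPrime q)), memB]
    simp [hF]
  have g2 : gr e' L b = B.comap (LinearMap.inr R (K q) (K q)) := by
    ext x
    obtain ⟨r, rfl⟩ := residue_surjective x
    rw [mem_gr, Submodule.mem_comap, LinearMap.inr_apply, ← map_zero (residue (Localization.AtPrime q)), memB, e'b, hFb]
    simp
  have g3 : gr e L a = B.map (LinearMap.snd R (K q) (K q)) := by
    ext x
    obtain ⟨s, rfl⟩ := residue_surjective x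
    rw [mem_gr, hFa]
    constructor
    · rintro ⟨x, hx, hxF⟩
      obtain ⟨y, hy, z, hz, hyz⟩ := Submodule.mem_sup.1 hxF
      obtain ⟨r, rfl⟩ := Submodule.mem_span_singleton.1 hy
      refine ⟨(residue (Localization.AtPrime q) r, residue (Localization.AtPrime q) s), (memB r s).2 ⟨x, hx, ?_⟩, rfl⟩
      have : x - (r • e.1 b + s • e.1 a) = z := by
        rw [show x = (x - s • e.1 a) + s • e.1 a from (sub_add_cancel _ _).symm, ← hyz]; abel
      rwa [this]
    · rintro ⟨⟨y, z⟩, hyz, hz⟩
      change z = _ at hz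
      subst hz
      obtain ⟨r, rfl⟩ := residue_surjective y
      obtain ⟨x, hx, hxF⟩ := (memB r s).1 hyz
      refine ⟨x, hx, ?_⟩
      rw [show x - s • e.1 a = r • e.1 b + (x - (r • e.1 b + s • e.1 a)) by abel]
      exact Submodule.add_mem_sup (Submodule.mem_span_singleton.2 ⟨r, rfl⟩) hxF
  have g4 : gr e' L a = B.map (LinearMap.fst R (K q) (K q)) := by
    ext x
    obtain ⟨r, rfl⟩ := residue_surjective x
    rw [mem_gr, e'a, hFa']
    constructor
    · rintro ⟨x, hx, hxF⟩
      obtain ⟨y, hy, z, hz, hyz⟩ := Submodule.mem_sup.1 hxF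
      obtain ⟨s, rfl⟩ := Submodule.mem_span_singleton.1 hy
      refine ⟨(residue (Localization.AtPrime q) r, residue (Localization.AtPrime q) s), (memB r s).2 ⟨x, hx, ?_⟩, rfl⟩
      have : x - (r • e.1 b + s • e.1 a) = z := by
        rw [show x = (x - r • e.1 b) + r • e.1 b from (sub_add_cancel _ _).symm, ← hyz]; abel
      rwa [this]
    · rintro ⟨⟨y, z⟩, hyz, hy⟩
      change y = _ at hy
      subst hy
      obtain ⟨s, rfl⟩ := residue_surjective z
      obtain ⟨x, hx, hxF⟩ := (memB r s).1 hyz
      refine ⟨x, hx, ?_⟩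
      rw [show x - r • e.1 b = s • e.1 a + (x - (r • e.1 b + s • e.1 a)) by abel]
      exact Submodule.add_mem_sup (Submodule.mem_span_singleton.2 ⟨s, rfl⟩) hxF
  have hpair := pair_indep q hq hBlat
  have hd : ∀ g : Fin l → ℤ, ∑ i, g i = g a + g b + ∑ i ∈ (Finset.univ.erase a).erase b, g i := fun g => by
    rw [← Finset.add_sum_erase _ _ (Finset.mem_univ a),
      ← Finset.add_sum_erase _ _ (Finset.mem_erase.2 ⟨hab'.symm, Finset.mem_univ b⟩)]
    ring
  unfold delta
  rw [hd, hd, g1, g2, g3, g4, Finset.sum_congr rfl (fun i hi => by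
    rw [hsame i (Finset.ne_of_mem_erase (Finset.mem_of_mem_erase hi)) (Finset.ne_of_mem_erase hi)])]
  omega

variable (hl : Module.length (Localization.AtPrime q) V = l)
include hl

theorem exists_swap (e : Adm (Localization.AtPrime q) V l) (h : Strict (Localization.AtPrime q) e.1) (a b : Fin l) (hab : (b : ℕ) + 1 = a)
    (h1 : ∀ r ∈ maximalIdeal (Localization.AtPrime q), r • e.1 a ∈ spanBefore (Localization.AtPrime q) V e.1 b) :
    ∃ e' : Adm (Localization.AtPrime q) V l, e'.1 = e.1 ∘ Equiv.swap a b ∧ Strict (Localization.AtPrime q) e'.1 := by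
  classical
  set e' := e.1 ∘ Equiv.swap a b with he'
  have e'a : e' a = e.1 b := by simp [he']
  have e'b : e' b = e.1 a := by simp [he']
  have e'o : ∀ j, j ≠ a → j ≠ b → e' j = e.1 j := fun j ha hb => by
    rw [he', Function.comp_apply, Equiv.swap_apply_of_ne_of_ne ha hb]
  have hlow : spanBefore (Localization.AtPrime q) V e' b = spanBefore (Localization.AtPrime q) V e.1 b := sb_congr fun j hj =>
    e'o j (fun h => by subst h; omega) (fun h => by subst h; omega)
  have hadm : IsAdmissible (Localization.AtPrime q) V e' := by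
    intro i r hr
    by_cases hia : i = a
    · subst hia; rw [e'a]
      exact sb_mono _ (by omega) (hlow.symm ▸ e.2 b r hr)
    by_cases hib : i = b
    · subst hib; rw [e'b, hlow]; exact h1 r hr
    rw [e'o i hia hib]
    refine (?_ : spanBefore (Localization.AtPrime q) V e.1 i ≤ spanBefore (Localization.AtPrime q) V e' i) (e.2 i r hr)
    refine sb_le fun j hj => ?_
    have := Fin.val_ne_iff.2 hia; have := Fin.val_ne_iff.2 hib
    by_cases hja : j = a
    · subst hja; rw [← e'b]; exact mem_sb _ _ (by omega)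
    by_cases hjb : j = b
    · subst hjb; rw [← e'a]; exact mem_sb _ _ (by omega)
    rw [← e'o j hja hjb]; exact mem_sb _ _ hj
  refine ⟨⟨e', hadm⟩, rfl, strict_of_span_eq_top hl ⟨e', hadm⟩ ?_⟩
  show Submodule.span (Localization.AtPrime q) (Set.range (e.1 ∘ Equiv.swap a b)) = ⊤
  rw [span_range_swap]
  exact span_eq_top_of_strict hl.le h

theorem move_down (hq : ringKrullDim (R ⧸ q) = 1) (k : ℕ) :
    ∀ (d : ℕ) (e : Adm (Localization.AtPrime q) V l), Strict (Localization.AtPrime q) e.1 → ∀ p : Fin l, (p : ℕ) = k + d →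
      (∀ r ∈ maximalIdeal (Localization.AtPrime q), r • e.1 p ∈ spanBefore (Localization.AtPrime q) V e.1 k) →
      ∃ e' : Adm (Localization.AtPrime q) V l, Strict (Localization.AtPrime q) e'.1 ∧ Comp e e' ∧
        (∀ j : Fin l, (j : ℕ) < k → e'.1 j = e.1 j) ∧ ∀ j : Fin l, (j : ℕ) = k → e'.1 j = e.1 p := by
  intro d
  induction d with
  | zero =>
    intro e h p hp _
    exact ⟨e, h, comp_refl hq e, fun _ _ => rfl, fun j hj => by rw [Fin.ext (show (j : ℕ) = p by omega)]⟩
  | succ d ih =>
    intro e h p hp hm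
    let b : Fin l := ⟨k + d, by omega⟩
    have hb : (b : ℕ) + 1 = p := by simp [b]; omega
    have hm' : ∀ r ∈ maximalIdeal (Localization.AtPrime q), r • e.1 p ∈ spanBefore (Localization.AtPrime q) V e.1 b := fun r hr =>
      sb_mono _ (by simp [b]) (hm r hr)
    obtain ⟨e1, he1, h1⟩ := exists_swap hl e h p b hb hm'
    have hagree : ∀ j : Fin l, (j : ℕ) < k → e1.1 j = e.1 j := fun j hj => by
      rw [he1, Function.comp_apply, Equiv.swap_apply_of_ne_of_ne (fun h => by subst h; omega)
        (fun h => by subst h; simp [b] at hj)]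
    have he1b : e1.1 b = e.1 p := by rw [he1]; simp
    obtain ⟨e', h', hc, hlow, hk⟩ := ih e1 h1 b rfl (by rw [he1b, sb_congr hagree]; exact hm)
    exact ⟨e', h', comp_trans hq (comp_swap hq e e1 h h1 p b hb hm' he1) hc,
      fun j hj => (hlow j hj).trans (hagree j hj), fun j hj => (hk j hj).trans he1b⟩

theorem comp_of_agree (hq : ringKrullDim (R ⧸ q) = 1) :
    ∀ (n k : ℕ), k + n = l → ∀ e e' : Adm (Localization.AtPrime q) V l, Strict (Localization.AtPrime q) e.1 → Strict (Localization.AtPrime q) e'.1 →
      (∀ j : Fin l, (j : ℕ) < k → e.1 j = e'.1 j) → Comp e e' := by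
  classical
  intro n
  induction n with
  | zero =>
    intro k hk e e' _ _ hag
    rw [show e = e' from Subtype.ext (funext fun j => hag j (by omega))]
    exact comp_refl hq e'
  | succ n ih =>
    intro k hk e e' h h' hag
    let ka : Fin l := ⟨k, by omega⟩
    set x := e'.1 ka with hx
    have hex : ∃ m, x ∈ spanBefore (Localization.AtPrime q) V e.1 m := ⟨l, by
      rw [sb_all, span_eq_top_of_strict hl.le h]; trivial⟩
    have hk0 : spanBefore (Localization.AtPrime q) V e.1 k = spanBefore (Localization.AtPrime q) V e'.1 k := sb_congr hag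
    have hbig : k < Nat.find hex := by
      by_contra hle
      apply h' ka
      show x ∈ spanBefore (Localization.AtPrime q) V e'.1 k
      rw [← hk0]
      exact sb_mono _ (not_lt.1 hle) (Nat.find_spec hex)
    have hle : Nat.find hex ≤ l := Nat.find_min' hex (by
      rw [sb_all, span_eq_top_of_strict hl.le h]; trivial)
    let p : Fin l := ⟨Nat.find hex - 1, by omega⟩
    have hxp : x ∈ spanBefore (Localization.AtPrime q) V e.1 ((p : ℕ) + 1) := by
      rw [show (p : ℕ) + 1 = Nat.find hex by simp [p]; omega]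
      exact Nat.find_spec hex
    have hxp' : x ∉ spanBefore (Localization.AtPrime q) V e.1 p := Nat.find_min hex (show Nat.find hex - 1 < Nat.find hex by omega)
    rw [sb_succ, Submodule.mem_sup] at hxp
    obtain ⟨y, hy, z, hz, hyz⟩ := hxp
    obtain ⟨r, rfl⟩ := Submodule.mem_span_singleton.1 hy
    have hr : IsUnit r := by
      by_contra hr
      exact hxp' (hyz ▸ add_mem (e.2 p r hr) hz)
    obtain ⟨c, rfl⟩ := hr
    have hmx : ∀ t ∈ maximalIdeal (Localization.AtPrime q), t • x ∈ spanBefore (Localization.AtPrime q) V e.1 k := fun t ht => hk0 ▸ e'.2 ka t ht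
    have hkp : k ≤ (p : ℕ) := by simp [p]; omega
    have hrel : e.1 p - (↑c⁻¹ : (Localization.AtPrime q)) • Function.update e.1 p x p ∈ spanBefore (Localization.AtPrime q) V e.1 p := by
      rw [Function.update_self, ← hyz, smul_add, smul_smul, Units.inv_mul, one_smul,
        show e.1 p - (e.1 p + (↑c⁻¹ : (Localization.AtPrime q)) • z) = -((↑c⁻¹ : (Localization.AtPrime q)) • z) by abel]
      exact neg_mem (Submodule.smul_mem _ _ hz)
    have hne : ∀ j, j ≠ p → e.1 j = Function.update e.1 p x j := fun j hj =>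
      (Function.update_of_ne hj x e.1).symm
    have hF := sb_eq_of_scale p c⁻¹ hne hrel
    have hadm : IsAdmissible (Localization.AtPrime q) V (Function.update e.1 p x) := by
      intro i t ht
      rw [← hF]
      by_cases hi : i = p
      · subst hi; rw [Function.update_self]; exact sb_mono _ hkp (hmx t ht)
      · rw [← hne i hi]; exact e.2 i t ht
    let e1 : Adm (Localization.AtPrime q) V l := ⟨Function.update e.1 p x, hadm⟩
    have h1 : Strict (Localization.AtPrime q) e1.1 := strict_of_span_eq_top hl e1 (by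
      rw [← sb_all, ← hF, sb_all]; exact span_eq_top_of_strict hl.le h)
    have hlow : ∀ j : Fin l, (j : ℕ) < k → e1.1 j = e.1 j := fun j hj =>
      (hne j (fun h => by subst h; omega)).symm
    obtain ⟨e2, h2, hc2, hlow2, hk2⟩ := move_down hl hq k ((p : ℕ) - k) e1 h1 p (by omega) (by
      show ∀ t ∈ maximalIdeal (Localization.AtPrime q), t • Function.update e.1 p x p ∈ _
      rw [Function.update_self, sb_congr hlow]; exact hmx)
    refine comp_trans hq (comp_scale hq e e1 h p c⁻¹ hne hrel) (comp_trans hq hc2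
      (ih (k + 1) (by omega) e2 e' h2 h' fun j hj => ?_))
    rcases Nat.lt_succ_iff_lt_or_eq.1 hj with hj | hj
    · rw [hlow2 j hj, hlow j hj, hag j hj]
    · rw [hk2 j hj, show e1.1 p = x from Function.update_self p x e.1, hx, show ka = j from Fin.ext hj.symm]

theorem comp_any (hq : ringKrullDim (R ⧸ q) = 1) (e e' : Adm (Localization.AtPrime q) V l) (h : Strict (Localization.AtPrime q) e.1) (h' : Strict (Localization.AtPrime q) e'.1) :
    Comp e e' :=
  comp_of_agree hl hq l 0 (Nat.zero_add l) e e' h h' fun _ hj => absurd hj (Nat.not_lt_zero _)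

end CycDetIndex

namespace CycDetIndex

open IsLocalRing CycDet CycDetLib Groth.Agent.OrdDet

variable {R : Type u} [CommRing R] [IsNoetherianRing R] [IsLocalRing R] {q : Ideal R} [q.IsPrime]
variable {V : Type u} [AddCommGroup V] [Module R V] [Module (Localization.AtPrime q) V]
  [IsScalarTower R (Localization.AtPrime q) V]
variable {M : Type u} [AddCommGroup M] [Module R M] {l : ℕ}

/-- A presentation of `M` with successive quotients `R/q`. -/
def Filtered (q : Ideal R) (x : Fin l → M) : Prop :=
  Submodule.span R (Set.range x) = ⊤ ∧ ∀ i : Fin l, Nonempty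
    ((↥(spanBefore R M x (i + 1)) ⧸ (spanBefore R M x i).submoduleOf (spanBefore R M x (i + 1))) ≃ₗ[R] (R ⧸ q))

variable {x : Fin l → M}

omit [IsNoetherianRing R] in
theorem Filtered.smul_mem (h : Filtered q x) (i : Fin l) {r : R} (hr : r ∈ q) :
    r • x i ∈ spanBefore R M x i := by
  obtain ⟨e⟩ := h.2 i
  set z : ↥(spanBefore R M x (i + 1)) := ⟨x i, mem_sb _ _ (Nat.lt_succ_self _)⟩
  have : (Submodule.Quotient.mk (r • z) :
      ↥(spanBefore R M x (i + 1)) ⧸ (spanBefore R M x i).submoduleOf (spanBefore R M x (i + 1))) = 0 := by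
    apply e.injective
    rw [Submodule.Quotient.mk_smul, map_smul, map_zero]
    obtain ⟨w, hw⟩ := Ideal.Quotient.mk_surjective (e (Submodule.Quotient.mk z))
    rw [← hw, Algebra.smul_def, Ideal.Quotient.algebraMap_eq, ← map_mul, Ideal.Quotient.eq_zero_iff_mem]
    exact Ideal.mul_mem_right _ _ hr
  exact (Submodule.Quotient.mk_eq_zero ((spanBefore R M x i).submoduleOf (spanBefore R M x (i + 1)))).1 this

omit [IsNoetherianRing R] in
theorem Filtered.not_mem (h : Filtered q x) (i : Fin l) : x i ∉ spanBefore R M x i := by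
  intro hx
  obtain ⟨e⟩ := h.2 i
  have hle : spanBefore R M x (i + 1) ≤ spanBefore R M x i := by
    rw [sb_succ]
    exact sup_le (Submodule.span_le.2 (Set.singleton_subset_iff.2 hx)) le_rfl
  have h0 : ∀ z, z = (0 : ↥(spanBefore R M x (i + 1)) ⧸ _) := fun z => by
    induction z using Submodule.Quotient.induction_on with
    | H w => exact (Submodule.Quotient.mk_eq_zero ((spanBefore R M x i).submoduleOf (spanBefore R M x (i + 1)))).2 (hle w.2)
  have h1 : (1 : R ⧸ q) = 0 := by rw [← e.apply_symm_apply 1, h0 (e.symm 1), map_zero]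
  exact (Ideal.Quotient.nontrivial_iff.2 (Ideal.IsPrime.ne_top ‹_›) : Nontrivial (R ⧸ q)).exists_pair_ne.elim
    fun a ha => ha.elim fun b hab => hab (by rw [← one_mul a, ← one_mul b, h1, zero_mul, zero_mul])

omit [IsNoetherianRing R] in
theorem Filtered.saturated (h : Filtered q x) {j : ℕ} (hj : j ≤ l) {s : R} (hs : s ∉ q) {m : M}
    (hm : s • m ∈ spanBefore R M x j) : m ∈ spanBefore R M x j := by
  suffices key : ∀ d j : ℕ, j + d = l → s • m ∈ spanBefore R M x j → m ∈ spanBefore R M x j from
    key (l - j) j (by omega) hm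
  intro d
  induction d with
  | zero =>
    intro j hj _
    rw [show j = l by omega, sb_all, h.1]
    trivial
  | succ d ih =>
    intro j hj hm
    let i : Fin l := ⟨j, by omega⟩
    have hm1 : m ∈ spanBefore R M x (j + 1) := ih (j + 1) (by omega) (sb_mono _ (Nat.le_succ _) hm)
    obtain ⟨e⟩ := h.2 i
    set z : ↥(spanBefore R M x (i + 1)) := ⟨m, hm1⟩
    have h0 : s • e (Submodule.Quotient.mk z) = 0 := by
      rw [← map_smul, ← Submodule.Quotient.mk_smul, show
        (Submodule.Quotient.mk (s • z) : ↥(spanBefore R M x (i + 1)) ⧸ (spanBefore R M x i).submoduleOf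
          (spanBefore R M x (i + 1))) = 0 from (Submodule.Quotient.mk_eq_zero _).2 hm, map_zero]
    obtain ⟨w, hw⟩ := Ideal.Quotient.mk_surjective (e (Submodule.Quotient.mk z))
    rw [← hw, Algebra.smul_def, Ideal.Quotient.algebraMap_eq, ← map_mul, Ideal.Quotient.eq_zero_iff_mem] at h0
    have hw0 : Ideal.Quotient.mk q w = 0 :=
      Ideal.Quotient.eq_zero_iff_mem.2 ((Ideal.IsPrime.mem_or_mem ‹_› h0).resolve_left hs)
    exact (Submodule.Quotient.mk_eq_zero ((spanBefore R M x i).submoduleOf (spanBefore R M x (i + 1)))).1 (e.injective ((hw.symm.trans hw0).trans (map_zero e).symm))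

omit [IsNoetherianRing R] [IsLocalRing R] in
theorem exists_smul_mem_map {ι : Type*} (v : ι → V) (s : Set ι) {y : V}
    (hy : y ∈ Submodule.span (Localization.AtPrime q) (v '' s)) :
    ∃ t ∉ q, t • y ∈ Submodule.span R (v '' s) := by
  obtain ⟨t, ht⟩ := multiple_mem_span_of_mem_localization_span q.primeCompl (Localization.AtPrime q) (v '' s) y hy
  exact ⟨t, t.2, ht⟩

/-- Everything we need about a filtered lattice. -/
theorem Filtered.main (hq : ringKrullDim (R ⧸ q) = 1) (h : Filtered q x) (g : M →ₗ[R] V)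
    (hg : Function.Injective g) (hsurj : ∀ v : V, ∃ s ∉ q, s • v ∈ LinearMap.range g) [Module.Finite R M] :
    ∃ e : Adm (Localization.AtPrime q) V l, e.1 = g ∘ x ∧ Strict (Localization.AtPrime q) e.1 ∧
      Submodule.span (Localization.AtPrime q) (Set.range e.1) = ⊤ ∧ IsLat q (LinearMap.range g) ∧
      delta e (LinearMap.range g) = 0 := by
  have hmap : ∀ j, (spanBefore R M x j).map g = Submodule.span R ((g ∘ x) '' {k : Fin l | (k : ℕ) < j}) := by
    intro j
    rw [spanBefore, Submodule.map_span, Set.image_comp]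
  have hmem : ∀ j ≤ l, ∀ m : M, g m ∈ spanBefore (Localization.AtPrime q) V (g ∘ x) j →
      m ∈ spanBefore R M x j := by
    intro j hj m hm
    obtain ⟨t, ht, htm⟩ := exists_smul_mem_map (g ∘ x) _ hm
    rw [← hmap, ← map_smul] at htm
    obtain ⟨m', hm', hmm⟩ := htm
    rw [hg hmm] at hm'
    exact h.saturated hj ht hm'
  have hincl : ∀ j m, m ∈ spanBefore R M x j → g m ∈ spanBefore (Localization.AtPrime q) V (g ∘ x) j := by
    intro j m hm
    have : g m ∈ Submodule.span R ((g ∘ x) '' {k : Fin l | (k : ℕ) < j}) := hmap j ▸ Submodule.mem_map_of_mem hm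
    exact Submodule.span_le_restrictScalars R (Localization.AtPrime q) _ this
  have hadm : IsAdmissible (Localization.AtPrime q) V (g ∘ x) := by
    intro i r hr
    rw [← Localization.AtPrime.map_eq_maximalIdeal, Ideal.map, ← Ideal.submodule_span_eq] at hr
    induction hr using Submodule.span_induction with
    | mem y hy =>
      obtain ⟨a, ha, rfl⟩ := hy
      rw [algebraMap_smul, Function.comp_apply, ← map_smul]
      exact hincl _ _ (h.smul_mem i ha)
    | zero => rw [zero_smul]; exact Submodule.zero_mem _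
    | add y z _ _ hy hz => rw [add_smul]; exact add_mem hy hz
    | smul a y _ hy => rw [smul_eq_mul, mul_smul]; exact Submodule.smul_mem _ a hy
  let e : Adm (Localization.AtPrime q) V l := ⟨g ∘ x, hadm⟩
  have hstrict : Strict (Localization.AtPrime q) e.1 := fun i hi => h.not_mem i (hmem i i.2.le (x i) hi)
  have htop : Submodule.span (Localization.AtPrime q) (Set.range e.1) = ⊤ := by
    rw [eq_top_iff]
    intro v _
    obtain ⟨s, hs, m, hm⟩ := hsurj v
    have hgm : g m ∈ Submodule.span (Localization.AtPrime q) (Set.range e.1) := by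
      rw [← sb_all]
      exact hincl l m (by rw [sb_all, h.1]; trivial)
    obtain ⟨u, hu⟩ : IsUnit (algebraMap R (Localization.AtPrime q) s) :=
      IsLocalization.map_units (M := q.primeCompl) (Localization.AtPrime q) ⟨s, hs⟩
    have := Submodule.smul_mem _ (↑u⁻¹ : Localization.AtPrime q) hgm
    rwa [hm, ← algebraMap_smul (Localization.AtPrime q) s v, ← hu, smul_smul, Units.inv_mul, one_smul] at this
  have hlat : IsLat q (LinearMap.range g) :=
    ⟨Submodule.fg_range g, hsurj⟩
  refine ⟨e, rfl, hstrict, htop, hlat, Finset.sum_eq_zero fun i _ => ?_⟩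
  suffices hgr : gr e (LinearMap.range g) i = A0 q by rw [hgr]; exact J_self _
  apply le_antisymm
  · intro c hc
    obtain ⟨r, rfl⟩ := residue_surjective c
    obtain ⟨_, ⟨m, rfl⟩, hm⟩ := (mem_gr e _ i r).1 hc
    have hm1 : g m ∈ spanBefore (Localization.AtPrime q) V e.1 (i + 1) := by
      rw [← sub_add_cancel (g m) (r • e.1 i)]
      exact add_mem (sb_mono _ (Nat.le_succ _) hm) (Submodule.smul_mem _ _ (mem_sb _ _ (Nat.lt_succ_self _)))
    have := hmem (i + 1) i.2 m hm1
    rw [sb_succ, Submodule.mem_sup] at this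
    obtain ⟨y, hy, z, hz, rfl⟩ := this
    obtain ⟨a, rfl⟩ := Submodule.mem_span_singleton.1 hy
    refine Submodule.mem_span_singleton.2 ⟨a, ?_⟩
    apply lam_injective hstrict i
    rw [map_smul, ← map_one (residue (Localization.AtPrime q)), lam_residue, lam_residue, one_smul,
      ← Submodule.Quotient.mk_smul, Submodule.Quotient.eq]
    have heq : a • e.1 i - r • e.1 i = (g (a • x i + z) - r • e.1 i) - g z := by
      rw [map_add, map_smul, show g (x i) = e.1 i from rfl]; abel
    rw [heq]
    exact sub_mem hm (hincl _ _ hz)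
  · rw [A0, Submodule.span_le, Set.singleton_subset_iff, SetLike.mem_coe,
      ← map_one (residue (Localization.AtPrime q)), mem_gr]
    exact ⟨g (x i), ⟨_, rfl⟩, by rw [one_smul]; exact (sub_self (e.1 i)).symm ▸ Submodule.zero_mem _⟩

end CycDetIndex
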