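import Groth.Agent.CycDetLib.Basic
import Groth.Agent.S1838

/-!
# Determinants in short exact sequences
-/

set_option autoImplicit false
universe u v

namespace CycDetLib

open IsLocalRing CycDet
open scoped TensorProduct

variable {R : Type u} [CommRing R] [IsLocalRing R]
variable {M : Type v} [AddCommGroup M] [Module R M]

/-- The class of a tuple. -/
noncomputable abbrev cls {l : ℕ} (e : Adm R M l) : DetOfLen R M l := Submodule.Quotient.mk (sym R M e)

theorem cls_degen {l : ℕ} (e : Adm R M l) (a : Fin l) (h : e.1 a ∈ spanBefore R M e.1 a) : cls e = 0 :=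
  (Submodule.Quotient.mk_eq_zero _).2 (Submodule.subset_span (Or.inl (Or.inl ⟨e, a, h, rfl⟩)))

theorem cls_scale {l : ℕ} (e e' : Adm R M l) (a : Fin l) (c : Rˣ) (h1 : ∀ j, j ≠ a → e.1 j = e'.1 j)
    (h2 : e.1 a - (c : R) • e'.1 a ∈ spanBefore R M e.1 a) : cls e = residue R (c : R) • cls e' := by
  rw [← sub_eq_zero]
  unfold cls
  rw [← Submodule.Quotient.mk_smul, ← Submodule.Quotient.mk_sub]
  exact (Submodule.Quotient.mk_eq_zero _).2
    (Submodule.subset_span (Or.inl (Or.inr ⟨e, e', a, c, h1, h2, rfl⟩)))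

theorem cls_swap {l : ℕ} (e e' : Adm R M l) (a b : Fin l) (hab : (b : ℕ) + 1 = a)
    (h1 : ∀ r ∈ maximalIdeal R, r • e.1 a ∈ spanBefore R M e.1 b)
    (h2 : e'.1 = e.1 ∘ Equiv.swap a b) : cls e + cls e' = 0 := by
  unfold cls
  rw [← Submodule.Quotient.mk_add]
  exact (Submodule.Quotient.mk_eq_zero _).2
    (Submodule.subset_span (Or.inr ⟨e, e', a, b, hab, h1, h2, rfl⟩))

theorem cls_eq_zero_of_not_strict {l : ℕ} (e : Adm R M l) (h : ¬ Strict R e.1) : cls e = 0 := by
  unfold Strict at h
  push Not at h
  obtain ⟨a, ha⟩ := h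
  exact cls_degen e a ha

theorem cls_eq_zero_of_span_ne_top {l : ℕ} (hl : Module.length R M = l) (e : Adm R M l)
    (h : Submodule.span R (Set.range e.1) ≠ ⊤) : cls e = 0 :=
  cls_eq_zero_of_not_strict e fun hs => h (span_eq_top_of_strict hl.le hs)

variable {K L : Type v} [AddCommGroup K] [Module R K] [AddCommGroup L] [Module R L]
variable {k m : ℕ} (f : K →ₗ[R] L) (g : L →ₗ[R] M)

theorem sb_append_le {eL : Fin (k + m) → L} (eK : Fin k → K)
    (h : ∀ i : Fin k, eL (Fin.castAdd m i) = f (eK i)) (i : ℕ) :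
    (spanBefore R K eK i).map f ≤ spanBefore R L eL i := by
  rw [Submodule.map_le_iff_le_comap]
  refine sb_le fun j hj => ?_
  rw [Submodule.mem_comap, ← h j]
  exact mem_sb eL _ (by simpa using hj)

theorem sb_right {eL : Fin (k + m) → L} (eK : Fin k → K)
    (h : ∀ i : Fin k, eL (Fin.castAdd m i) = f (eK i))
    (hfg : LinearMap.range f = LinearMap.ker g) (hK : Submodule.span R (Set.range eK) = ⊤)
    (eM : Fin m → M) (hg : ∀ j : Fin m, g (eL (Fin.natAdd k j)) = eM j) (i : ℕ) :
    (spanBefore R M eM i).comap g ≤ spanBefore R L eL (k + i) := by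
  intro y hy
  have hker : LinearMap.ker g ≤ spanBefore R L eL (k + i) := by
    rw [← hfg, LinearMap.range_eq_map, ← hK, ← sb_all]
    exact (sb_append_le f eK h k).trans (sb_mono _ (Nat.le_add_right k i))
  have hle : spanBefore R M eM i ≤ (spanBefore R L eL (k + i)).map g := by
    refine sb_le fun j hj => ⟨eL (Fin.natAdd k j), mem_sb eL _ ?_, hg j⟩
    simpa using hj
  obtain ⟨z, hz, hzy⟩ := hle hy
  have : y - z ∈ spanBefore R L eL (k + i) := hker (by rw [LinearMap.mem_ker, map_sub, hzy, sub_self])
  have := add_mem this hz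
  rwa [sub_add_cancel] at this

theorem adm_append (eK : Adm R K k) (eM : Adm R M m)
    (hfg : LinearMap.range f = LinearMap.ker g) (hK : Submodule.span R (Set.range eK.1) = ⊤)
    (el : Fin m → L) (hg : ∀ j, g (el j) = eM.1 j) :
    IsAdmissible R L (Fin.append (f ∘ eK.1) el) := by
  intro i r hr
  refine Fin.addCases (fun i => ?_) (fun j => ?_) i
  · rw [Fin.append_left, Fin.val_castAdd]
    refine sb_append_le f eK.1 (fun i => Fin.append_left _ _ i) _ ?_
    exact ⟨r • eK.1 i, eK.2 i r hr, map_smul f r _⟩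
  · rw [Fin.append_right, Fin.val_natAdd]
    refine sb_right f g eK.1 (fun i => Fin.append_left _ _ i) hfg hK eM.1
      (fun j => by rw [Fin.append_right]; exact hg j) _ ?_
    rw [Submodule.mem_comap, map_smul, hg]
    exact eM.2 j r hr

theorem append_ne_eq {A B : Fin k → L} {C D : Fin m → L} (hAB : ∀ i, A i = B i) (hCD : ∀ j, C j = D j)
    (x : Fin (k + m)) : Fin.append A C x = Fin.append B D x := by
  rw [funext hAB, funext hCD]

theorem append_swap_left (A : Fin k → L) (C : Fin m → L) (a b : Fin k) :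
    Fin.append (A ∘ Equiv.swap a b) C =
      Fin.append A C ∘ Equiv.swap (Fin.castAdd m a) (Fin.castAdd m b) := by
  funext x
  refine Fin.addCases (fun i => ?_) (fun j => ?_) x
  · rw [Fin.append_left, Function.comp_apply, Function.comp_apply,
      (Fin.castAdd_injective k m).swap_apply, Fin.append_left]
  · rw [Fin.append_right, Function.comp_apply,
      Equiv.swap_apply_of_ne_of_ne (fun h => by simp [Fin.ext_iff] at h; omega)
        (fun h => by simp [Fin.ext_iff] at h; omega), Fin.append_right]

theorem append_swap_right (A : Fin k → L) (C : Fin m → L) (a b : Fin m) :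
    Fin.append A (C ∘ Equiv.swap a b) =
      Fin.append A C ∘ Equiv.swap (Fin.natAdd k a) (Fin.natAdd k b) := by
  funext x
  refine Fin.addCases (fun i => ?_) (fun j => ?_) x
  · rw [Fin.append_left, Function.comp_apply,
      Equiv.swap_apply_of_ne_of_ne (fun h => by simp [Fin.ext_iff] at h; omega)
        (fun h => by simp [Fin.ext_iff] at h; omega), Fin.append_left]
  · rw [Fin.append_right, Function.comp_apply, Function.comp_apply,
      (Fin.natAdd_injective m k).swap_apply, Fin.append_right]

/-- Descend a function on admissible tuples compatible with the relations. -/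
theorem exists_descend {l : ℕ} {V : Type*} [AddCommGroup V] [Module (ResidueField R) V]
    (Ψ : Adm R M l → V)
    (h1 : ∀ (e : Adm R M l) (a : Fin l), e.1 a ∈ spanBefore R M e.1 a → Ψ e = 0)
    (h2 : ∀ (e e' : Adm R M l) (a : Fin l) (c : Rˣ), (∀ j, j ≠ a → e.1 j = e'.1 j) →
      e.1 a - (c : R) • e'.1 a ∈ spanBefore R M e.1 a → Ψ e = residue R (c : R) • Ψ e')
    (h3 : ∀ (e e' : Adm R M l) (a b : Fin l), (b : ℕ) + 1 = a →
      (∀ r ∈ maximalIdeal R, r • e.1 a ∈ spanBefore R M e.1 b) →
      e'.1 = e.1 ∘ Equiv.swap a b → Ψ e + Ψ e' = 0) :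
    ∃ T : DetOfLen R M l →ₗ[ResidueField R] V, ∀ e, T (cls e) = Ψ e := by
  let T₀ := Finsupp.linearCombination (ResidueField R) Ψ
  have hT₀ : ∀ e, T₀ (sym R M e) = Ψ e := fun e => by simp [T₀, sym]
  have hle : Submodule.span (ResidueField R) (relSet R M l) ≤ LinearMap.ker T₀ := by
    refine Submodule.span_le.2 ?_
    rintro x ((⟨e, a, ha, rfl⟩ | ⟨e, e', a, c, hj, ha, rfl⟩) | ⟨e, e', a, b, hab, hs, he', rfl⟩)
    · show T₀ _ = 0
      rw [hT₀, h1 e a ha]
    · show T₀ _ = 0
      rw [map_sub, map_smul, hT₀, hT₀, h2 e e' a c hj ha, sub_self]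
    · show T₀ _ = 0
      rw [map_add, hT₀, hT₀, h3 e e' a b hab hs he']
  exact ⟨Submodule.liftQ _ T₀ hle, hT₀⟩

theorem prefix_linear (hlK : Module.length R K = k) (hfg : LinearMap.range f = LinearMap.ker g)
    (eM : Adm R M m) (el : Fin m → L) (hg : ∀ j, g (el j) = eM.1 j) :
    ∃ T : DetOfLen R K k →ₗ[ResidueField R] DetOfLen R L (k + m),
      ∀ (eK : Adm R K k) (hK : Submodule.span R (Set.range eK.1) = ⊤),
        T (cls eK) = cls ⟨_, adm_append f g eK eM hfg hK el hg⟩ := by
  classical
  let Ψ : Adm R K k → DetOfLen R L (k + m) := fun eK =>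
    if hK : Submodule.span R (Set.range eK.1) = ⊤ then cls ⟨_, adm_append f g eK eM hfg hK el hg⟩ else 0
  have hmap : ∀ (eK : Fin k → K) (i : ℕ) {z : K}, z ∈ spanBefore R K eK i →
      f z ∈ spanBefore R L (Fin.append (f ∘ eK) el) i := fun eK i z hz =>
    sb_append_le f eK (fun i => Fin.append_left _ _ i) i ⟨z, hz, rfl⟩
  obtain ⟨T, hT⟩ := exists_descend Ψ
    (fun e a ha => by
      refine dif_neg fun hK => ?_
      exact strict_of_span_eq_top hlK e hK a ha)
    (fun e e' a c h1 h2 => by
      have hsp : Submodule.span R (Set.range e.1) = Submodule.span R (Set.range e'.1) := by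
        rw [← sb_all, sb_eq_of_scale a c h1 h2, sb_all]
      by_cases hK : Submodule.span R (Set.range e.1) = ⊤
      · simp only [Ψ, dif_pos hK, dif_pos (hsp.symm.trans hK)]
        refine cls_scale _ _ (Fin.castAdd m a) c (fun j hj => ?_) ?_
        · show Fin.append _ _ j = Fin.append _ _ j
          refine Fin.addCases (fun i hi => ?_) (fun i _ => ?_) j hj
          · rw [Fin.append_left, Fin.append_left, Function.comp_apply, Function.comp_apply,
              h1 i (fun h => hi (by rw [h]))]
          · rw [Fin.append_right, Fin.append_right]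
        · show Fin.append _ _ _ - (c : R) • Fin.append _ _ _ ∈ spanBefore R L (Fin.append _ _) _
          rw [Fin.append_left, Fin.append_left, Fin.val_castAdd, Function.comp_apply, Function.comp_apply,
            ← map_smul, ← map_sub]
          exact hmap _ _ h2
      · simp only [Ψ, dif_neg hK, dif_neg (fun h => hK (hsp.trans h)), smul_zero])
    (fun e e' a b hab h1 h2 => by
      have hsp : Submodule.span R (Set.range e'.1) = Submodule.span R (Set.range e.1) := by
        rw [h2, span_range_swap]
      by_cases hK : Submodule.span R (Set.range e.1) = ⊤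
      · simp only [Ψ, dif_pos hK, dif_pos (hsp.trans hK)]
        refine cls_swap _ _ (Fin.castAdd m a) (Fin.castAdd m b) (by simpa using hab) (fun r hr => ?_) ?_
        · show r • Fin.append _ _ _ ∈ spanBefore R L (Fin.append _ _) _
          rw [Fin.append_left, Fin.val_castAdd, Function.comp_apply, ← map_smul]
          exact hmap _ _ (h1 r hr)
        · show Fin.append (f ∘ e'.1) el = _
          rw [h2, ← Function.comp_assoc, append_swap_left]
      · simp only [Ψ, dif_neg hK, dif_neg (fun h => hK (hsp.symm.trans h)), add_zero])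
  exact ⟨T, fun eK hK => (hT eK).trans (dif_pos hK)⟩

theorem cls_append_congr (hfg : LinearMap.range f = LinearMap.ker g)
    (eK : Adm R K k) (hK : Submodule.span R (Set.range eK.1) = ⊤) (eM : Adm R M m)
    (el el' : Fin m → L) (hg : ∀ j, g (el j) = eM.1 j) (hg' : ∀ j, g (el' j) = eM.1 j) :
    cls (⟨_, adm_append f g eK eM hfg hK el hg⟩ : Adm R L (k + m)) =
      cls ⟨_, adm_append f g eK eM hfg hK el' hg'⟩ := by
  classical
  suffices ∀ (s : Finset (Fin m)) (el : Fin m → L) (hg : ∀ j, g (el j) = eM.1 j),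
      (∀ j, j ∉ s → el j = el' j) → cls (⟨_, adm_append f g eK eM hfg hK el hg⟩ : Adm R L (k + m)) =
        cls ⟨_, adm_append f g eK eM hfg hK el' hg'⟩ from
    this Finset.univ el hg fun j hj => absurd (Finset.mem_univ j) hj
  intro s
  induction s using Finset.induction_on with
  | empty =>
    intro el hg h
    obtain rfl : el = el' := funext fun j => h j (Finset.notMem_empty j)
    rfl
  | @insert a s ha ih =>
    intro el hg h
    have hg1 : ∀ j, g (Function.update el a (el' a) j) = eM.1 j := fun j => by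
      by_cases hja : j = a
      · subst hja; rw [Function.update_self]; exact hg' j
      · rw [Function.update_of_ne hja]; exact hg j
    have h1 : cls (⟨_, adm_append f g eK eM hfg hK el hg⟩ : Adm R L (k + m)) =
        cls ⟨_, adm_append f g eK eM hfg hK _ hg1⟩ := by
      have := cls_scale (⟨_, adm_append f g eK eM hfg hK el hg⟩ : Adm R L (k + m))
        ⟨_, adm_append f g eK eM hfg hK _ hg1⟩ (Fin.natAdd k a) 1 (fun j hj => by
          refine Fin.addCases (fun i _ => ?_) (fun i hi => ?_) j hj
          · show Fin.append _ _ _ = Fin.append _ _ _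
            rw [Fin.append_left, Fin.append_left]
          · show Fin.append _ _ _ = Fin.append _ _ _
            rw [Fin.append_right, Fin.append_right, Function.update_of_ne (fun h => hi (by rw [h]))])
        (by
          show Fin.append _ _ _ - _ • Fin.append _ _ _ ∈ spanBefore R L (Fin.append _ _) _
          rw [Fin.append_right, Fin.append_right, Function.update_self, Units.val_one, one_smul,
            Fin.val_natAdd]
          refine sb_right f g eK.1 (fun i => Fin.append_left _ _ i) hfg hK eM.1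
            (fun j => by rw [Fin.append_right]; exact hg j) _ ?_
          rw [Submodule.mem_comap, map_sub, hg, hg', sub_self]
          exact zero_mem _)
      rwa [Units.val_one, map_one, one_smul] at this
    rw [h1]
    refine ih _ hg1 fun j hj => ?_
    by_cases hja : j = a
    · subst hja; rw [Function.update_self]
    · rw [Function.update_of_ne hja]; exact h j (by simp [hja, hj])

theorem suffix_linear (hg0 : Function.Surjective g) (hfg : LinearMap.range f = LinearMap.ker g)
    (eK : Adm R K k) (hK : Submodule.span R (Set.range eK.1) = ⊤) :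
    ∃ T : DetOfLen R M m →ₗ[ResidueField R] DetOfLen R L (k + m),
      ∀ (eM : Adm R M m) (el : Fin m → L) (hg : ∀ j, g (el j) = eM.1 j),
        T (cls eM) = cls ⟨_, adm_append f g eK eM hfg hK el hg⟩ := by
  classical
  choose σ hσ using hg0
  let Ψ : Adm R M m → DetOfLen R L (k + m) := fun eM =>
    cls ⟨_, adm_append f g eK eM hfg hK (σ ∘ eM.1) (fun j => hσ _)⟩
  have hpull : ∀ (eM : Adm R M m) (i : ℕ) {y : L}, g y ∈ spanBefore R M eM.1 i →
      y ∈ spanBefore R L (Fin.append (f ∘ eK.1) (σ ∘ eM.1)) (k + i) := fun eM i y hy =>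
    sb_right f g eK.1 (fun i => Fin.append_left _ _ i) hfg hK eM.1
      (fun j => by rw [Fin.append_right]; exact hσ _) i hy
  obtain ⟨T, hT⟩ := exists_descend Ψ
    (fun e a ha => by
      refine cls_degen _ (Fin.natAdd k a) ?_
      show Fin.append _ _ _ ∈ spanBefore R L (Fin.append _ _) _
      rw [Fin.append_right, Fin.val_natAdd]
      exact hpull e a (by rw [Function.comp_apply, hσ]; exact ha))
    (fun e e' a c h1 h2 => by
      refine cls_scale _ _ (Fin.natAdd k a) c (fun j hj => ?_) ?_
      · refine Fin.addCases (fun i _ => ?_) (fun i hi => ?_) j hj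
        · show Fin.append _ _ _ = Fin.append _ _ _
          rw [Fin.append_left, Fin.append_left]
        · show Fin.append _ _ _ = Fin.append _ _ _
          rw [Fin.append_right, Fin.append_right, Function.comp_apply, Function.comp_apply,
            h1 i (fun h => hi (by rw [h]))]
      · show Fin.append _ _ _ - (c : R) • Fin.append _ _ _ ∈ spanBefore R L (Fin.append _ _) _
        rw [Fin.append_right, Fin.append_right, Fin.val_natAdd]
        refine hpull e a ?_
        rw [map_sub, map_smul, Function.comp_apply, Function.comp_apply, hσ, hσ]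
        exact h2)
    (fun e e' a b hab h1 h2 => by
      refine cls_swap _ _ (Fin.natAdd k a) (Fin.natAdd k b) (by simp; omega) (fun r hr => ?_) ?_
      · show r • Fin.append _ _ _ ∈ spanBefore R L (Fin.append _ _) _
        rw [Fin.append_right, Fin.val_natAdd]
        refine hpull e b ?_
        rw [map_smul, Function.comp_apply, hσ]
        exact h1 r hr
      · show Fin.append (f ∘ eK.1) (σ ∘ e'.1) = _
        rw [h2, ← Function.comp_assoc, append_swap_right])
  exact ⟨T, fun eM el hg => (hT eM).trans (cls_append_congr f g hfg eK hK eM _ el (fun j => hσ _) hg)⟩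

theorem exists_gamma (hlK : Module.length R K = k) (hlM : Module.length R M = m)
    (hlL : Module.length R L = ((k + m : ℕ) : ℕ∞))
    (hrK : Module.rank (ResidueField R) (DetOfLen R K k) ≤ 1)
    (hrM : Module.rank (ResidueField R) (DetOfLen R M m) ≤ 1)
    (hrL : Module.rank (ResidueField R) (DetOfLen R L (k + m)) ≤ 1)
    (hg0 : Function.Surjective g) (hfg : LinearMap.range f = LinearMap.ker g) :
    ∃ γ : (DetOfLen R K k ⊗[ResidueField R] DetOfLen R M m) ≃ₗ[ResidueField R] DetOfLen R L (k + m),
      ∀ (eK : Adm R K k) (eM : Adm R M m) (eL : Adm R L (k + m)), cls eK ≠ 0 →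
        (∀ i, eL.1 (Fin.castAdd m i) = f (eK.1 i)) →
        (∀ j, g (eL.1 (Fin.natAdd k j)) = eM.1 j) →
        γ (cls eK ⊗ₜ cls eM) = cls eL := by
  obtain ⟨-, -, -, eK0, hK0⟩ := exists_functional (R := R) k K hlK
  obtain ⟨-, -, -, eM0, hM0⟩ := exists_functional (R := R) m M hlM
  obtain ⟨T, hT⟩ := suffix_linear f g (m := m) hg0 hfg eK0 hK0
  have hK0' : cls eK0 ≠ 0 := mk_ne_zero k hlK eK0 hK0
  have hM0' : cls eM0 ≠ 0 := mk_ne_zero m hlM eM0 hM0
  have hcol : ∀ {V : Type (max u v)} [AddCommGroup V] [Module (ResidueField R) V],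
      Module.rank (ResidueField R) V ≤ 1 → ∀ v : V, v ≠ 0 → ∀ w : V, ∃ a : ResidueField R, a • v = w := by
    intro V _ _ hr v hv w
    obtain ⟨v₀, h₀⟩ := rank_le_one_iff.1 hr
    obtain ⟨a, rfl⟩ := h₀ v
    obtain ⟨b, rfl⟩ := h₀ w
    have ha : a ≠ 0 := by rintro rfl; exact hv (zero_smul _ _)
    exact ⟨b * a⁻¹, by rw [smul_smul, mul_assoc, inv_mul_cancel₀ ha, mul_one]⟩
  choose σ hσ using hg0
  have hL0 : T (cls eM0) ≠ 0 := by
    rw [hT eM0 (σ ∘ eM0.1) fun j => hσ _]
    refine mk_ne_zero _ hlL _ ?_
    rw [← sb_all, eq_top_iff]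
    intro y _
    refine sb_right f g eK0.1 (fun i => Fin.append_left _ _ i) hfg hK0 eM0.1
      (fun j => by rw [Fin.append_right]; exact hσ _) m ?_
    rw [sb_all, hM0]
    trivial
  have hTb : Function.Bijective T := by
    refine ⟨fun x y hxy => ?_, fun w => ?_⟩
    · obtain ⟨a, rfl⟩ := hcol hrM _ hM0' x
      obtain ⟨b, rfl⟩ := hcol hrM _ hM0' y
      rw [map_smul, map_smul] at hxy
      rw [smul_left_injective _ hL0 hxy]
    · obtain ⟨a, ha⟩ := hcol hrL _ hL0 w
      exact ⟨a • cls eM0, by rw [map_smul, ha]⟩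
  have hbK : Function.Bijective (LinearMap.toSpanSingleton (ResidueField R) _ (cls eK0)) :=
    ⟨smul_left_injective _ hK0', fun w => hcol hrK _ hK0' w⟩
  let cK := LinearEquiv.ofBijective _ hbK
  let γ := ((TensorProduct.congr cK.symm (LinearEquiv.refl _ _)).trans (TensorProduct.lid _ _)).trans
    (LinearEquiv.ofBijective T hTb)
  refine ⟨γ, fun eK eM eL hne hl hr => ?_⟩
  have hK : Submodule.span R (Set.range eK.1) = ⊤ := by
    by_contra h; exact hne (cls_eq_zero_of_span_ne_top hlK eK h)
  let el : Fin m → L := fun j => eL.1 (Fin.natAdd k j)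
  obtain ⟨a, ha⟩ := hcol hrK _ hK0' (cls eK)
  have hcK : cK.symm (cls eK) = a := by
    rw [LinearEquiv.symm_apply_eq]; exact ha.symm
  show T (TensorProduct.lid _ _ (TensorProduct.congr cK.symm (LinearEquiv.refl _ _) (cls eK ⊗ₜ cls eM))) = _
  rw [TensorProduct.congr_tmul, TensorProduct.lid_tmul, hcK, LinearEquiv.refl_apply, map_smul,
    hT eM el hr]
  obtain ⟨P, hP⟩ := prefix_linear f g hlK hfg eM el hr
  rw [← hP eK0 hK0, ← map_smul, ha, hP eK hK]
  refine congrArg cls (Subtype.ext (funext fun x => ?_))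
  refine Fin.addCases (fun i => ?_) (fun j => ?_) x
  · show Fin.append _ _ _ = _
    rw [Fin.append_left, Function.comp_apply, hl]
  · show Fin.append _ _ _ = _
    rw [Fin.append_right]

end CycDetLib
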