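import Groth.Prelude.Def_CycDet
import Groth.Prelude.Def_Tame
import Groth.Agent.CycDetLib.Basic
import Groth.Agent.OrdDet.Lattice
import Mathlib

/-!
# The lattice index of a flag and its relation to symbols

For a finite length module `V` over `R_q` (with `dim R/q = 1`), a strict admissible tuple `e` and a
lattice `L ⊆ V` we sum the indices of the graded pieces of `L` in the lines `κ e_i`. Changing the tuple
changes this number by the order of the ratio of the symbols.
-/

set_option autoImplicit false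
universe u

namespace CycDetIndex

open IsLocalRing CycDet CycDetLib Groth.Agent.OrdDet

section qlen

variable {R : Type u} [CommRing R] {W U : Type u} [AddCommGroup W] [Module R W] [AddCommGroup U] [Module R U]

theorem qlen_sup (A B : Submodule R W) : qlen (A ⊔ B) A = qlen B (B ⊓ A) := by
  have h := (LinearMap.quotientInfEquivSupQuotient B A).length_eq
  unfold qlen
  rw [sup_comm A B]
  refine h.symm.trans ?_
  exact (Submodule.quotEquivOfEq _ _ (by ext x; simp [Submodule.submoduleOf, Submodule.mem_comap])).length_eq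

theorem qlen_le_zero {X Y : Submodule R W} (h : X ≤ Y) : qlen X Y = 0 :=
  Module.length_eq_zero_iff.mpr (Submodule.Quotient.subsingleton_iff.mpr
    (eq_top_iff.mpr fun x _ => h x.2))

theorem qlen_split (f : W →ₗ[R] U) {K K' : Submodule R W} (h : K' ≤ K) :
    qlen K K' = qlen (K ⊓ LinearMap.ker f) (K' ⊓ LinearMap.ker f) + qlen (K.map f) (K'.map f) := by
  set P := K' ⊔ (K ⊓ LinearMap.ker f)
  have hP : P ≤ K := sup_le h inf_le_left
  rw [qlen_add (le_sup_left : K' ≤ P) hP]
  congr 1
  · show qlen (K' ⊔ (K ⊓ LinearMap.ker f)) K' = _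
    rw [qlen_sup]
    congr 1
    apply le_antisymm
    · exact fun x hx => ⟨hx.2, hx.1.2⟩
    · exact fun x hx => ⟨⟨h hx.1, hx.2⟩, hx.1⟩
  · let g : (K : Submodule R W) →ₗ[R] (↥(K.map f) ⧸ (K'.map f).submoduleOf (K.map f)) :=
      ((K'.map f).submoduleOf (K.map f)).mkQ.comp
        ((f.comp K.subtype).codRestrict (K.map f) fun x => ⟨x, x.2, rfl⟩)
    have hg : Function.Surjective g := by
      intro z
      induction z using Submodule.Quotient.induction_on with
      | H y =>
        obtain ⟨_, x, hx, rfl⟩ := y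
        exact ⟨⟨x, hx⟩, rfl⟩
    have hker : LinearMap.ker g = P.submoduleOf K := by
      ext x
      constructor
      · intro hx
        obtain ⟨y, hy, hyx⟩ := (Submodule.Quotient.mk_eq_zero _).1 hx
        have hyx' : f y = f x := hyx
        refine Submodule.mem_sup.2 ⟨y, hy, (x : W) - y, ⟨sub_mem x.2 (h hy), ?_⟩, add_sub_cancel _ _⟩
        simp [hyx']
      · intro hx
        obtain ⟨y, hy, z, hz, hyz⟩ := Submodule.mem_sup.1 (show (x : W) ∈ P from hx)
        refine (Submodule.Quotient.mk_eq_zero _).2 ⟨y, hy, ?_⟩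
        show f y = f (x : W)
        rw [← hyz, map_add, LinearMap.mem_ker.1 hz.2, add_zero]
    exact ((Submodule.quotEquivOfEq _ _ hker.symm).trans (g.quotKerEquivOfSurjective hg)).length_eq

/-- The relative index of two submodules. -/
noncomputable def J (X Y : Submodule R W) : ℤ :=
  ((qlen X (X ⊓ Y)).toNat : ℤ) - ((qlen Y (X ⊓ Y)).toNat : ℤ)

theorem J_self (X : Submodule R W) : J X X = 0 := by simp [J]

theorem J_of_le {X Y : Submodule R W} (h : Y ≤ X) : J X Y = ((qlen X Y).toNat : ℤ) := by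
  unfold J
  rw [inf_eq_right.2 h, qlen_self]
  simp

theorem J_anti (X Y : Submodule R W) : J Y X = - J X Y := by
  unfold J
  rw [inf_comm]
  ring

theorem J_map (f : W →ₗ[R] U) (hf : Function.Injective f) (X Y : Submodule R W) :
    J (X.map f) (Y.map f) = J X Y := by
  unfold J
  rw [← Submodule.map_inf f hf, qlen_map f hf, qlen_map f hf]

theorem J_of_common {X Y Z : Submodule R W} (hX : Z ≤ X) (hY : Z ≤ Y) (fX : qlen X Z ≠ ⊤)
    (fY : qlen Y Z ≠ ⊤) : J X Y = ((qlen X Z).toNat : ℤ) - (qlen Y Z).toNat := by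
  unfold J
  have hZ : Z ≤ X ⊓ Y := le_inf hX hY
  rw [qlen_add hZ inf_le_left] at fX ⊢
  rw [qlen_add hZ inf_le_right] at fY ⊢
  have fX1 : qlen (X ⊓ Y) Z ≠ ⊤ := fun h => fX (by simp [h])
  have fX2 : qlen X (X ⊓ Y) ≠ ⊤ := fun h => fX (by simp [h])
  have fY2 : qlen Y (X ⊓ Y) ≠ ⊤ := fun h => fY (by simp [h])
  rw [ENat.toNat_add fX1 fX2, ENat.toNat_add fX1 fY2]
  push_cast
  ring

end qlen

variable {R : Type u} [CommRing R] [IsNoetherianRing R] (q : Ideal R) [q.IsPrime]

/-- A lattice: finitely generated and saturating up to an element outside `q`. -/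
def IsLat {W : Type u} [AddCommGroup W] [Module R W] (X : Submodule R W) : Prop :=
  X.FG ∧ ∀ v : W, ∃ s ∉ q, s • v ∈ X

variable {q} {W : Type u} [AddCommGroup W] [Module R W]

theorem fg_of_le {X Y : Submodule R W} (h : Y ≤ X) (hX : X.FG) : Y.FG := by
  haveI : Module.Finite R X := Module.Finite.iff_fg.mpr hX
  have := (IsNoetherian.noetherian (Y.comap X.subtype)).map X.subtype
  rwa [Submodule.map_comap_subtype, inf_eq_right.2 h] at this

theorem IsLat.inf {X Y : Submodule R W} (hX : IsLat q X) (hY : IsLat q Y) : IsLat q (X ⊓ Y) := by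
  refine ⟨fg_of_le inf_le_left hX.1, fun v => ?_⟩
  obtain ⟨s, hs, hsv⟩ := hX.2 v
  obtain ⟨t, ht, htv⟩ := hY.2 v
  refine ⟨s * t, fun h => ((Ideal.IsPrime.mem_or_mem ‹_› h).elim hs ht), ?_, ?_⟩
  · rw [mul_comm, mul_smul]; exact X.smul_mem t hsv
  · rw [mul_smul]; exact Y.smul_mem s htv

section finite

variable [IsLocalRing R]

theorem length_quot_ne_top (hq : ringKrullDim (R ⧸ q) = 1) {Q : Type u} [AddCommGroup Q] [Module R Q]
    [Module.Finite R Q] {t : R} (ht : t ∉ q) (htQ : ∀ x : Q, t • x = 0)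
    (hqQ : ∀ r ∈ q, ∀ x : Q, r • x = 0) : Module.length R Q ≠ ⊤ := by
  set I := q ⊔ Ideal.span {t}
  haveI : Ring.KrullDimLE 1 (R ⧸ q) := by
    rw [Ring.krullDimLE_iff, hq]; exact le_rfl
  haveI : IsArtinianRing (R ⧸ I) := by
    rw [isArtinianRing_iff_krullDimLE_zero, Ring.krullDimLE_zero_iff]
    intro P hP
    suffices hmx : (P.comap (Ideal.Quotient.mk I)).IsMaximal by
      have h := Ideal.map_eq_top_or_isMaximal_of_surjective _ (Ideal.Quotient.mk_surjective (I := I)) hmx
      rw [Ideal.map_comap_of_surjective _ Ideal.Quotient.mk_surjective] at h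
      exact h.resolve_left hP.ne_top
    have hPI : I ≤ P.comap (Ideal.Quotient.mk I) := fun x hx => by
      rw [Ideal.mem_comap, Ideal.Quotient.eq_zero_iff_mem.2 hx]; exact P.zero_mem
    set P' := P.comap (Ideal.Quotient.mk I) with hP'
    haveI : P'.IsPrime := hP.comap _
    have hqP : q ≤ P' := le_sup_left.trans hPI
    haveI : (P'.map (Ideal.Quotient.mk q)).IsPrime :=
      Ideal.map_isPrime_of_surjective Ideal.Quotient.mk_surjective (by rwa [Ideal.mk_ker])
    have hne : P'.map (Ideal.Quotient.mk q) ≠ ⊥ := by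
      intro h
      rw [Ideal.map_eq_bot_iff_le_ker, Ideal.mk_ker] at h
      exact ht (h (hPI (Submodule.mem_sup_right (Ideal.mem_span_singleton_self t))))
    have hmax : (P'.map (Ideal.Quotient.mk q)).IsMaximal := Ideal.IsPrime.isMaximal_of_ne_bot inferInstance hne
    have := Ideal.comap_isMaximal_of_surjective _ Ideal.Quotient.mk_surjective (H := hmax)
    rwa [Ideal.comap_map_of_surjective _ Ideal.Quotient.mk_surjective, ← RingHom.ker_eq_comap_bot,
      Ideal.mk_ker, sup_eq_left.2 hqP] at this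
  have htors : Module.IsTorsionBySet R Q (I : Set R) := by
    rintro x ⟨r, hr⟩
    obtain ⟨a, ha, b, hb, rfl⟩ := Submodule.mem_sup.1 hr
    obtain ⟨c, rfl⟩ := Ideal.mem_span_singleton'.1 hb
    show (a + c * t) • x = 0
    rw [add_smul, hqQ a ha x, mul_smul, htQ, smul_zero, add_zero]
  letI := htors.module
  haveI : IsScalarTower R (R ⧸ I) Q := htors.isScalarTower
  haveI : Module.Finite (R ⧸ I) Q := Module.Finite.of_restrictScalars_finite R (R ⧸ I) Q
  rw [length_eq_of_forall_exists (R := R) (S := R ⧸ I) (Q := Q) fun b x => by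
      obtain ⟨a, rfl⟩ := Ideal.Quotient.mk_surjective b
      exact ⟨a, (IsScalarTower.algebraMap_smul (R ⧸ I) a x)⟩]
  rw [Module.length_ne_top_iff, isFiniteLength_iff_isNoetherian_isArtinian]
  exact ⟨inferInstance, inferInstance⟩

theorem qlen_lat_ne_top (hq : ringKrullDim (R ⧸ q) = 1) (hann : ∀ r ∈ q, ∀ x : W, r • x = 0)
    {X Y : Submodule R W} (hX : X.FG) (hY : IsLat q Y) : qlen X Y ≠ ⊤ := by
  classical
  obtain ⟨S, hS⟩ := hX
  choose s hs hsY using hY.2
  haveI : Module.Finite R X := Module.Finite.iff_fg.mpr ⟨S, hS⟩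
  have hle : ∀ x ∈ X, (∏ a ∈ S, s a) • x ∈ Y := by
    intro x hx
    rw [← hS] at hx
    have : (S : Set W) ⊆ Y.comap (LinearMap.lsmul R W (∏ a ∈ S, s a)) := by
      intro z hz
      show (∏ a ∈ S, s a) • z ∈ Y
      rw [← Finset.prod_erase_mul S s hz, mul_smul]
      exact Y.smul_mem _ (hsY z)
    exact Submodule.span_le.2 this hx
  refine length_quot_ne_top hq (Q := ↥X ⧸ Y.submoduleOf X) (t := ∏ a ∈ S, s a) ?_ (fun z => ?_) fun r hr z => ?_
  · intro h
    obtain ⟨a, -, ha⟩ := (Ideal.IsPrime.prod_mem_iff).1 h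
    exact hs a ha
  · induction z using Submodule.Quotient.induction_on with
    | H x =>
      rw [← Submodule.Quotient.mk_smul]
      exact (Submodule.Quotient.mk_eq_zero _).2 (hle x x.2)
  · induction z using Submodule.Quotient.induction_on with
    | H x =>
      rw [← Submodule.Quotient.mk_smul]
      have h0 : r • x = 0 := Subtype.ext (hann r hr x)
      rw [h0, Submodule.Quotient.mk_zero]

theorem J_trans (hq : ringKrullDim (R ⧸ q) = 1) (hann : ∀ r ∈ q, ∀ x : W, r • x = 0)
    {X Y Z : Submodule R W} (hX : IsLat q X) (hY : IsLat q Y) (hZ : IsLat q Z) :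
    J X Y + J Y Z = J X Z := by
  have hC := (hX.inf hY).inf hZ
  have hCX : X ⊓ Y ⊓ Z ≤ X := inf_le_left.trans inf_le_left
  have hCY : X ⊓ Y ⊓ Z ≤ Y := inf_le_left.trans inf_le_right
  have fX := qlen_lat_ne_top hq hann hX.1 hC
  have fY := qlen_lat_ne_top hq hann hY.1 hC
  have fZ := qlen_lat_ne_top hq hann hZ.1 hC
  rw [J_of_common hCX hCY fX fY, J_of_common hCY inf_le_right fY fZ, J_of_common hCX inf_le_right fX fZ]
  ring

end finite

section kappa

variable (q)

/-- The residue field of `R_q`. -/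
abbrev K : Type u := ResidueField (Localization.AtPrime q)

/-- The lattice `R/q` inside `κ(q)`. -/
noncomputable def A0 : Submodule R (K q) := Submodule.span R {1}

/-- The index of a lattice of `κ(q)` with respect to `R/q`. -/
noncomputable def dd (X : Submodule R (K q)) : ℤ := J X (A0 q)

/-- The order function on `κ(q)`. -/
noncomputable def od (f : K q) : ℤ := CycAlg.ordFrac (R ⧸ q) q.ResidueField f

omit [IsNoetherianRing R] in
theorem ann_K : ∀ r ∈ q, ∀ x : K q, r • x = 0 := by
  intro r hr x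
  rw [Algebra.smul_def, IsScalarTower.algebraMap_apply R (Localization.AtPrime q) (K q),
    ResidueField.algebraMap_eq, (residue_eq_zero_iff _).2
      ((IsLocalization.AtPrime.to_map_mem_maximal_iff (Localization.AtPrime q) q r).2 hr), zero_mul]

omit [IsNoetherianRing R] in
theorem exists_frac (x : K q) : ∃ (a : R) (s : R), s ∉ q ∧ s • x = algebraMap R (K q) a := by
  obtain ⟨z, rfl⟩ := residue_surjective x
  obtain ⟨⟨a, s⟩, h⟩ := IsLocalization.surj q.primeCompl z
  refine ⟨a, s, s.2, ?_⟩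
  rw [Algebra.smul_def, IsScalarTower.algebraMap_apply R (Localization.AtPrime q) (K q),
    IsScalarTower.algebraMap_apply R (Localization.AtPrime q) (K q) a, mul_comm]
  simp only [ResidueField.algebraMap_eq]
  exact (map_mul (residue (Localization.AtPrime q)) z _).symm.trans (congrArg _ h)

omit [IsNoetherianRing R] in
theorem algebraMap_K_eq_zero {a : R} : algebraMap R (K q) a = 0 ↔ a ∈ q := by
  rw [IsScalarTower.algebraMap_apply R (Localization.AtPrime q) (K q), ResidueField.algebraMap_eq,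
    residue_eq_zero_iff]
  exact IsLocalization.AtPrime.to_map_mem_maximal_iff (Localization.AtPrime q) q a

theorem isLat_A0 : IsLat q (A0 q) := by
  refine ⟨Submodule.fg_span_singleton _, fun v => ?_⟩
  obtain ⟨a, s, hs, h⟩ := exists_frac q v
  refine ⟨s, hs, h ▸ Submodule.mem_span_singleton.2 ⟨a, ?_⟩⟩
  rw [Algebra.smul_def, mul_one]

/-- Multiplication by `c` on `κ(q)`. -/
noncomputable def mulK (c : K q) : K q →ₗ[R] K q := LinearMap.mulLeft R c

theorem mulK_apply (c x : K q) : mulK q c x = c * x := rfl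

theorem mulK_injective {c : K q} (hc : c ≠ 0) : Function.Injective (mulK q c) :=
  fun _ _ h => mul_left_cancel₀ hc h

theorem mulK_comp (a b : K q) : (mulK q a).comp (mulK q b) = mulK q (a * b) :=
  LinearMap.ext fun x => (mul_assoc a b x).symm

theorem isLat_map_mulK {X : Submodule R (K q)} (hX : IsLat q X) {c : K q} (hc : c ≠ 0) :
    IsLat q (X.map (mulK q c)) := by
  refine ⟨hX.1.map _, fun v => ?_⟩
  obtain ⟨s, hs, hsv⟩ := hX.2 (c⁻¹ * v)
  refine ⟨s, hs, s • (c⁻¹ * v), hsv, ?_⟩
  rw [mulK_apply, mul_smul_comm, ← mul_assoc, mul_inv_cancel₀ hc, one_mul]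

variable [IsLocalRing R] (hq : ringKrullDim (R ⧸ q) = 1)
include hq

theorem od_div (a b : R) (ha : a ∉ q) (hb : b ∉ q) :
    od q (algebraMap R (K q) a / algebraMap R (K q) b) =
      ((Ring.ord (R ⧸ q) (Ideal.Quotient.mk q a)).toNat : ℤ) - (Ring.ord (R ⧸ q) (Ideal.Quotient.mk q b)).toNat := by
  haveI : Ring.KrullDimLE 1 (R ⧸ q) := by rw [Ring.krullDimLE_iff, hq]; exact le_rfl
  exact ordFrac_div (A := R ⧸ q) (K := q.ResidueField) (Ideal.Quotient.mk q a) (Ideal.Quotient.mk q b)
    (fun h => ha (Ideal.Quotient.eq_zero_iff_mem.1 h)) (fun h => hb (Ideal.Quotient.eq_zero_iff_mem.1 h))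

omit hq [IsLocalRing R] in
theorem exists_div {x : K q} (hx : x ≠ 0) :
    ∃ a b : R, a ∉ q ∧ b ∉ q ∧ x = algebraMap R (K q) a / algebraMap R (K q) b := by
  obtain ⟨a, s, hs, h⟩ := exists_frac q x
  have hs' : algebraMap R (K q) s ≠ 0 := fun h' => hs ((algebraMap_K_eq_zero q).1 h')
  refine ⟨a, s, fun ha => ?_, hs, ?_⟩
  · rw [(algebraMap_K_eq_zero q).2 ha, Algebra.smul_def, mul_eq_zero] at h
    exact h.elim hs' hx
  · rw [eq_div_iff hs', mul_comm, ← Algebra.smul_def, h]

theorem od_mul {x y : K q} (hx : x ≠ 0) (hy : y ≠ 0) : od q (x * y) = od q x + od q y := by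
  haveI : Ring.KrullDimLE 1 (R ⧸ q) := by rw [Ring.krullDimLE_iff, hq]; exact le_rfl
  obtain ⟨a, b, ha, hb, rfl⟩ := exists_div q hx
  obtain ⟨c, d, hc, hd, rfl⟩ := exists_div q hy
  have hn : ∀ {r : R}, r ∉ q → (Ideal.Quotient.mk q r) ∈ nonZeroDivisors (R ⧸ q) := fun hr =>
    mem_nonZeroDivisors_of_ne_zero fun h => hr (Ideal.Quotient.eq_zero_iff_mem.1 h)
  rw [div_mul_div_comm, ← map_mul, ← map_mul,
    od_div q hq _ _ (fun h => (Ideal.IsPrime.mem_or_mem ‹_› h).elim ha hc)
      (fun h => (Ideal.IsPrime.mem_or_mem ‹_› h).elim hb hd),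
    od_div q hq a b ha hb, od_div q hq c d hc hd, map_mul, map_mul, Ring.ord_mul _ (hn hc),
    Ring.ord_mul _ (hn hd), ENat.toNat_add (Ring.ord_ne_top (hn ha)) (Ring.ord_ne_top (hn hc)),
    ENat.toNat_add (Ring.ord_ne_top (hn hb)) (Ring.ord_ne_top (hn hd))]
  push_cast
  ring

theorem od_one : od q (1 : K q) = 0 := by
  have := od_mul q hq (x := 1) (y := 1) one_ne_zero one_ne_zero
  rw [mul_one] at this
  omega

theorem od_neg_one : od q (-1 : K q) = 0 := by
  have := od_mul q hq (x := (-1 : K q)) (y := -1) (neg_ne_zero.2 one_ne_zero) (neg_ne_zero.2 one_ne_zero)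
  rw [neg_mul_neg, mul_one, od_one q hq] at this
  omega

theorem qlen_mul_eq {X : Submodule R (K q)} (hX : IsLat q X) {a : R} (ha : a ∉ q) :
    qlen X (X.map (mulK q (algebraMap R (K q) a))) = Ring.ord (R ⧸ q) (Ideal.Quotient.mk q a) := by
  set c := algebraMap R (K q) a with hc
  have hc0 : c ≠ 0 := fun h => ha ((algebraMap_K_eq_zero q).1 h)
  have hsub : ∀ Y : Submodule R (K q), Y.map (mulK q c) ≤ Y := by
    rintro Y _ ⟨y, hy, rfl⟩
    rw [mulK_apply, hc, ← Algebra.smul_def]
    exact Y.smul_mem a hy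
  have key : ∀ Y Z : Submodule R (K q), IsLat q Y → IsLat q Z → Z ≤ Y →
      qlen Y (Y.map (mulK q c)) = qlen Z (Z.map (mulK q c)) := by
    intro Y Z hY hZ hZY
    have h1 := qlen_add (hsub Z) hZY
    have h2 := qlen_add (Submodule.map_mono hZY : Z.map (mulK q c) ≤ Y.map (mulK q c)) (hsub Y)
    rw [qlen_map _ (mulK_injective q hc0)] at h2
    rw [h2, add_comm (qlen Z _)] at h1
    exact (WithTop.add_left_cancel (qlen_lat_ne_top hq (ann_K q) hY.1 hZ) h1 :)
  have hI := hX.inf (isLat_A0 q)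
  rw [key X _ hX hI inf_le_left, ← key (A0 q) _ (isLat_A0 q) hI inf_le_right]
  -- compute on `R/q`
  let j : (R ⧸ q) →ₗ[R] K q := (IsScalarTower.toAlgHom R (R ⧸ q) q.ResidueField).toLinearMap
  have hj : Function.Injective j := IsFractionRing.injective (R ⧸ q) q.ResidueField
  have hj1 : A0 q = Submodule.map j ⊤ := by
    apply le_antisymm
    · rw [A0, Submodule.span_le, Set.singleton_subset_iff]
      exact ⟨1, trivial, map_one (algebraMap (R ⧸ q) q.ResidueField)⟩
    · rintro _ ⟨z, -, rfl⟩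
      obtain ⟨r, rfl⟩ := Ideal.Quotient.mk_surjective z
      refine Submodule.mem_span_singleton.2 ⟨r, ?_⟩
      rw [Algebra.smul_def, mul_one]
      exact (IsScalarTower.toAlgHom R (R ⧸ q) q.ResidueField).commutes r |>.symm
  let m : Submodule R (R ⧸ q) := (Ideal.span {Ideal.Quotient.mk q a}).restrictScalars R
  have hj2 : (A0 q).map (mulK q c) = m.map j := by
    rw [hj1]
    apply le_antisymm
    · rintro _ ⟨_, ⟨z, -, rfl⟩, rfl⟩
      exact ⟨Ideal.Quotient.mk q a * z, Ideal.mem_span_singleton'.2 ⟨z, mul_comm _ _⟩, map_mul (IsScalarTower.toAlgHom R (R ⧸ q) q.ResidueField) _ _⟩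
    · rintro _ ⟨w, hw, rfl⟩
      obtain ⟨z, rfl⟩ := Ideal.mem_span_singleton'.1 hw
      refine ⟨j z, ⟨z, trivial, rfl⟩, ?_⟩
      show c * j z = j (z * Ideal.Quotient.mk q a)
      rw [mul_comm z]
      have hcj : c = j (Ideal.Quotient.mk q a) :=
        ((IsScalarTower.toAlgHom R (R ⧸ q) q.ResidueField).commutes a).symm
      rw [hcj]
      exact (map_mul (IsScalarTower.toAlgHom R (R ⧸ q) q.ResidueField) (Ideal.Quotient.mk q a) z).symm
  rw [hj2, hj1, qlen_map j hj, qlen_top, Ring.ord]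
  refine ((Submodule.Quotient.restrictScalarsEquiv R (Ideal.span {Ideal.Quotient.mk q a})).length_eq).trans ?_
  exact length_eq_of_forall_exists fun b x => by
    obtain ⟨r, rfl⟩ := Ideal.Quotient.mk_surjective b
    exact ⟨r, IsScalarTower.algebraMap_smul (R ⧸ q) r x⟩

theorem dd_mul {X : Submodule R (K q)} (hX : IsLat q X) {c : K q} (hc : c ≠ 0) :
    dd q (X.map (mulK q c)) = dd q X - od q c := by
  obtain ⟨a, b, ha, hb, rfl⟩ := exists_div q hc
  set ca := algebraMap R (K q) a
  set cb := algebraMap R (K q) b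
  have hca : ca ≠ 0 := fun h => ha ((algebraMap_K_eq_zero q).1 h)
  have hcb : cb ≠ 0 := fun h => hb ((algebraMap_K_eq_zero q).1 h)
  have hsub : ∀ {r : R} (Y : Submodule R (K q)), Y.map (mulK q (algebraMap R (K q) r)) ≤ Y := by
    rintro r Y _ ⟨y, hy, rfl⟩
    rw [mulK_apply, ← Algebra.smul_def]
    exact Y.smul_mem r hy
  have h1 := J_trans hq (ann_K q) (isLat_map_mulK q hX hc) hX (isLat_A0 q)
  have h2 : J (X.map (mulK q (ca / cb))) X = - od q (ca / cb) := by
    rw [← J_map (mulK q cb) (mulK_injective q hcb), ← Submodule.map_comp, mulK_comp,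
      mul_div_cancel₀ _ hcb, ← J_trans hq (ann_K q) (isLat_map_mulK q hX hca) hX (isLat_map_mulK q hX hcb),
      J_anti X, J_of_le (hsub X), J_of_le (hsub X), qlen_mul_eq q hq hX ha, qlen_mul_eq q hq hX hb,
      od_div q hq a b ha hb]
    ring
  unfold dd
  omega

end kappa

section pair

variable (q) [IsLocalRing R]

theorem pair_indep (hq : ringKrullDim (R ⧸ q) = 1) {B : Submodule R (K q × K q)} (hB : IsLat q B) :
    dd q (B.comap (LinearMap.inl R (K q) (K q))) + dd q (B.map (LinearMap.snd R (K q) (K q))) =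
      dd q (B.comap (LinearMap.inr R (K q) (K q))) + dd q (B.map (LinearMap.fst R (K q) (K q))) := by
  have hann : ∀ r ∈ q, ∀ x : K q × K q, r • x = 0 := fun r hr x =>
    Prod.ext (ann_K q r hr x.1) (ann_K q r hr x.2)
  set P : Submodule R (K q × K q) := (A0 q).prod (A0 q)
  have hP : IsLat q P := by
    refine ⟨(isLat_A0 q).1.prod (isLat_A0 q).1, fun v => ?_⟩
    obtain ⟨s, hs, h1⟩ := (isLat_A0 q).2 v.1
    obtain ⟨t, ht, h2⟩ := (isLat_A0 q).2 v.2
    refine ⟨s * t, fun h => ((Ideal.IsPrime.mem_or_mem ‹_› h).elim hs ht), ?_, ?_⟩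
    · show (s * t) • v.1 ∈ A0 q
      rw [mul_comm, mul_smul]; exact (A0 q).smul_mem t h1
    · show (s * t) • v.2 ∈ A0 q
      rw [mul_smul]; exact (A0 q).smul_mem s h2
  -- one projection
  have main : ∀ (i p : K q →ₗ[R] K q × K q) (f : K q × K q →ₗ[R] K q), Function.Injective i →
      LinearMap.range i = LinearMap.ker f → (∀ x, f (p x) = x) → P.comap i = A0 q → P.map f = A0 q →
      dd q (B.comap i) + dd q (B.map f) = J B P := by
    intro i p f hi hex hp hPi hPf
    have hmap : ∀ X : Submodule R (K q × K q), X ⊓ LinearMap.ker f = (X.comap i).map i := fun X => by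
      rw [Submodule.map_comap_eq, hex, inf_comm]
    have hlat1 : ∀ X : Submodule R (K q × K q), IsLat q X → IsLat q (X.comap i) := by
      intro X hX
      refine ⟨Submodule.fg_of_fg_map_injective i hi ?_, fun v => ?_⟩
      · rw [← hmap]; exact fg_of_le inf_le_left hX.1
      · obtain ⟨s, hs, h⟩ := hX.2 (i v)
        exact ⟨s, hs, show i (s • v) ∈ X by rw [map_smul]; exact h⟩
    have hlat2 : ∀ X : Submodule R (K q × K q), IsLat q X → IsLat q (X.map f) := by
      intro X hX
      refine ⟨hX.1.map f, fun v => ?_⟩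
      obtain ⟨s, hs, h⟩ := hX.2 (p v)
      exact ⟨s, hs, s • p v, h, by rw [map_smul, hp]⟩
    have step : ∀ X Y : Submodule R (K q × K q), IsLat q X → IsLat q Y → Y ≤ X →
        dd q (X.comap i) + dd q (X.map f) - (dd q (Y.comap i) + dd q (Y.map f)) = J X Y := by
      intro X Y hX hY hYX
      have e := qlen_split f hYX
      rw [hmap, hmap, qlen_map i hi] at e
      have t1 := J_trans hq (ann_K q) (hlat1 X hX) (hlat1 Y hY) (isLat_A0 q)
      have t2 := J_trans hq (ann_K q) (hlat2 X hX) (hlat2 Y hY) (isLat_A0 q)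
      rw [J_of_le hYX, e, ENat.toNat_add (qlen_lat_ne_top hq (ann_K q) (hlat1 X hX).1 (hlat1 Y hY))
        (qlen_lat_ne_top hq (ann_K q) (hlat2 X hX).1 (hlat2 Y hY))]
      rw [J_of_le (Submodule.comap_mono hYX : Y.comap i ≤ X.comap i)] at t1
      rw [J_of_le (Submodule.map_mono hYX : Y.map f ≤ X.map f)] at t2
      unfold dd
      push_cast
      omega
    have e1 := step B (B ⊓ P) hB (hB.inf hP) inf_le_left
    have e2 := step P (B ⊓ P) hP (hB.inf hP) inf_le_right
    have h0 : dd q (P.comap i) + dd q (P.map f) = 0 := by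
      rw [hPi, hPf]; simp [dd, J_self]
    have t := J_trans hq hann hB (hB.inf hP) hP
    rw [J_anti P (B ⊓ P)] at t
    omega
  rw [main (LinearMap.inl R (K q) (K q)) (LinearMap.inr R (K q) (K q)) (LinearMap.snd R (K q) (K q))
      LinearMap.inl_injective (LinearMap.range_inl R (K q) (K q)) (fun _ => rfl)
      (Submodule.prod_comap_inl _ _) (Submodule.prod_map_snd _ _),
    main (LinearMap.inr R (K q) (K q)) (LinearMap.inl R (K q) (K q)) (LinearMap.fst R (K q) (K q))
      LinearMap.inr_injective (LinearMap.range_inr R (K q) (K q)) (fun _ => rfl)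
      (Submodule.prod_comap_inr _ _) (Submodule.prod_map_fst _ _)]

end pair

end CycDetIndex
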